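import Cfsg.Agent.KFacts.Th.Struct
import Cfsg.Agent.Th.COracleSound
import Cfsg.Agent.StandardComponent.AltAut

/-!
# Automorphisms of `2^{1+8}.A9` (helper950)

Every automorphism of `C = C_G(a)` acts on `Q0 / ⟨a⟩` like an element of `C` (`nor`): the commutant of `L2(8):3` on
`Q0 / ⟨a⟩` is trivial, and an odd permutation of the nine points is not induced since a 9-cycle of `L2(8)` acts on
`Q0 / ⟨a⟩` without fixed points, and its conjugate by a transposition does not.
-/

set_option autoImplicit false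
set_option maxRecDepth 100000

namespace Cfsg.Agent.KFacts.Th.Nor

open Cfsg.Agent.Th.Base Cfsg.Agent.Th.Word Cfsg.Agent.Th.RelWords Cfsg.Agent.Th.PermTab
  Cfsg.Agent.Th.KOracle Cfsg.Agent.Th.KPerm Cfsg.Agent.Th.NineAct Cfsg.Agent.Th.CStruct
  Cfsg.Agent.Th.COracleDef
open Cfsg.Agent.KFacts.Th.Mask Cfsg.Agent.KFacts.Th.Struct

universe u

variable {G : Type u} [Group G] {γ : ℕ → G}

/-- a normal 2-subgroup of `A9` is trivial -/
theorem normal_two_alt (N : Subgroup (alternatingGroup (Fin 9))) (hN : N.Normal) (h2 : IsPGroup 2 N) : N = ⊥ := by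
  have hs : IsSimpleGroup (alternatingGroup (Fin 9)) := alternatingGroup.isSimpleGroup (by simp)
  rcases hN.eq_bot_or_eq_top with h | h
  · exact h
  · exfalso
    subst h
    haveI : Fact (Nat.Prime 2) := ⟨Nat.prime_two⟩
    obtain ⟨n, hn⟩ := IsPGroup.iff_card.1 h2
    rw [Subgroup.card_top, nat_card_alternatingGroup, Nat.card_eq_fintype_card, Fintype.card_fin] at hn
    have h3 : (3 : ℕ) ∣ 2 ^ n := by
      rw [← hn]
      decide
    have := Nat.Prime.dvd_of_dvd_pow Nat.prime_three h3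
    omega

/-- masks invariant under the letters 5, 6, 8 -/
theorem inv_check : allB 512 (fun k => or (parK k) (or (Nat.beq k 0) (or (Nat.beq k 510)
    (Bool.not (and (Nat.beq (pm 5 k) k) (and (Nat.beq (pm 6 k) k) (Nat.beq (pm 8 k) k))))))) = true := by
  decide +kernel

theorem inv_mask_eq {k : ℕ} (hk : k < 512) (hp : par k = false) (h5 : pm 5 k = k) (h6 : pm 6 k = k)
    (h8 : pm 8 k = k) : k = 0 ∨ k = 510 := by
  have h := (allB_iff _ _).mp inv_check k hk
  have e1 : parK k = false := by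
    have := (allB_iff _ _).mp parK_check k hk
    rw [eq_of_beqB this, hp]
  rw [e1, h5, h6, h8, show Nat.beq k k = true from Nat.beq_refl k] at h
  simp only [Bool.false_or, Bool.and_true, Bool.not_true, Bool.or_false, Bool.or_eq_true] at h
  rcases h with h | h
  · exact Or.inl (Nat.eq_of_beq_eq_true h)
  · exact Or.inr (Nat.eq_of_beq_eq_true h)

/-- word of the 9-cycle -/
def wx : List ℕ := [4,5,6]

/-- a word of the conjugate of the 9-cycle by the transposition (0 1) -/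
def wy : List ℕ := [5,10,4,10,6]

/-- the fixed element of `wy` -/
def wv : List ℕ := wc 0 ++ (wc 3 ++ wc 4)

theorem cyc_check : allB 512 (fun k => or (parK k) (or (Nat.beq k 0) (Bool.not (Nat.beq (tr pm wx k) k)))) = true := by
  decide +kernel

theorem fix_check : corc (iw wy ++ (wv ++ (wy ++ iw wv))) = true := by decide +kernel

theorem conj_perm : ev (rho isTab9) wy = Equiv.swap 0 1 * ev (rho isTab9) wx * (Equiv.swap 0 1)⁻¹ := by
  have h1 : ∀ p : Fin 9, (((ev (rho isTab9) wy)⁻¹ : Equiv.Perm (Fin 9)) p : ℕ) = tr act9 wy p :=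
    ev_rho_inv_apply isTab9 (by decide)
  have h2 : ∀ p : Fin 9, (((ev (rho isTab9) wx)⁻¹ : Equiv.Perm (Fin 9)) p : ℕ) = tr act9 wx p :=
    ev_rho_inv_apply isTab9 (by decide)
  have h3 : (ev (rho isTab9) wy)⁻¹ = Equiv.swap 0 1 * (ev (rho isTab9) wx)⁻¹ * (Equiv.swap 0 1)⁻¹ := by
    ext p
    rw [h1 p, Equiv.Perm.mul_apply, Equiv.Perm.mul_apply]
    have h4 := h2 ((Equiv.swap 0 1)⁻¹ p)
    have h5 : ∀ p q : Fin 9, (q : ℕ) = tr act9 wx (((Equiv.swap 0 1)⁻¹ : Equiv.Perm (Fin 9)) p : Fin 9) →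
      tr act9 wy p = ((Equiv.swap 0 1 : Equiv.Perm (Fin 9)) q : ℕ) := by decide +kernel
    exact h5 p _ h4
  have h4 := congrArg (fun z => z⁻¹) h3
  simp only [inv_inv, mul_inv_rev] at h4
  rw [h4]
  group

section

variable (h : Ctx γ)
include h

theorem mem_Cel {q : G} (hq : q ∈ Q0 γ) : q ∈ sub γ isC := h.Q_le hq

/-- an automorphism of `C` preserves `Q0` -/
theorem pres (β : MulAut (sub γ isC)) {q : sub γ isC} (hq : (q : G) ∈ Q0 γ) : ((β q : sub γ isC) : G) ∈ Q0 γ := by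
  obtain ⟨f, hf, hker, -⟩ := h.exists_epi
  have hfin := h.fin
  have hQ2 : IsPGroup 2 f.ker := by
    rw [hker]
    exact (IsPGroup.of_card (n := 9) (by rw [h.cardQ]; norm_num) : IsPGroup 2 (Q0 γ)).comap_of_injective _
      (Subgroup.subtype_injective _)
  have h1 : IsPGroup 2 (f.ker.map β.toMonoidHom) := hQ2.map _
  have hn1 : (f.ker.map β.toMonoidHom).Normal := Subgroup.Normal.map inferInstance _ β.surjective
  have h2 : IsPGroup 2 ((f.ker.map β.toMonoidHom).map f) := h1.map _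
  have hn2 : ((f.ker.map β.toMonoidHom).map f).Normal := Subgroup.Normal.map hn1 _ hf
  have h3 := normal_two_alt _ hn2 h2
  have h4 : f (β q) ∈ (f.ker.map β.toMonoidHom).map f :=
    ⟨β q, ⟨q, by rw [hker]; exact Subgroup.mem_subgroupOf.mpr hq, rfl⟩, rfl⟩
  rw [h3, Subgroup.mem_bot, ← MonoidHom.mem_ker, hker, Subgroup.mem_subgroupOf] at h4
  exact h4

/-- `a` as an element of `C` -/
theorem fix_a (β : MulAut (sub γ isC)) {x : sub γ isC} (hx : (x : G) = γ 1) : ((β x : sub γ isC) : G) = γ 1 := by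
  have hxc : ∀ y : sub γ isC, y * x = x * y := by
    intro y
    apply Subtype.ext
    rw [Subgroup.coe_mul, Subgroup.coe_mul, hx]
    exact h.mem_C.mp y.2
  rcases h.eq_of_cent (x := ((β x : sub γ isC) : G)) (by
    intro q hq
    obtain ⟨y, hy⟩ := β.surjective ⟨q, h.Q_le hq⟩
    have h1 : β x * β y = β y * β x := by rw [← map_mul, ← map_mul, hxc]
    rw [hy] at h1
    exact congrArg Subtype.val h1) with h1 | h1
  · exfalso
    have h2 : β x = 1 := Subtype.ext h1
    have h3 : x = 1 := β.injective (by rw [h2, map_one])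
    rw [h3] at hx
    exact h.a1 hx.symm
  · exact h1

/-- conjugation by elements of `Q0` does not change the mask -/
theorem mask_conjQ {r y : G} (hr : r ∈ Q0 γ) (hy : y ∈ Q0 γ) {m : ℕ} (hm : HM (γ 1) (cc γ) y m) :
    HM (γ 1) (cc γ) (r⁻¹ * y * r) m := by
  obtain ⟨k, hk⟩ := exists_mask h.data hr
  have hk' := inv_mask h.data hr hk
  have h1 := mul h.data (Subgroup.mul_mem _ (Subgroup.inv_mem _ hr) hy)
    (mul h.data (Subgroup.inv_mem _ hr) hk' hm) hk
  have e : k ^^^ m ^^^ k = m := by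
    rw [Nat.xor_comm k m, Nat.xor_assoc, Nat.xor_self, Nat.xor_zero]
  rwa [e] at h1

/-- conjugation by elements of `Q0` -/
theorem conjQ {r y : G} (hr : r ∈ Q0 γ) (hy : y ∈ Q0 γ) : r⁻¹ * y * r = y ∨ r⁻¹ * y * r = y * γ 1 := by
  obtain ⟨m, hm⟩ := exists_mask h.data hy
  exact eq_of_mask h.data h.cardQ hy (Subgroup.mul_mem _ (Subgroup.mul_mem _ (Subgroup.inv_mem _ hr) hy) hr)
    hm (mask_conjQ h hr hy hm)

/-- **The commutant**: an automorphism of `C` trivial on `C / Q0` is trivial on `Q0 / ⟨a⟩`. -/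
theorem commutant {f : sub γ isC →* alternatingGroup (Fin 9)} (hker : f.ker = (Q0 γ).subgroupOf (sub γ isC))
    (β : MulAut (sub γ isC)) (hβ : ∀ x, f (β x) = f x) {q : sub γ isC} (hq : (q : G) ∈ Q0 γ) :
    ((β q : sub γ isC) : G) = q ∨ ((β q : sub γ isC) : G) = q * γ 1 := by
  have D := h.data
  -- `β x = x r`
  have hr : ∀ x : sub γ isC, ∃ r : sub γ isC, (r : G) ∈ Q0 γ ∧ β x = x * r := by
    intro x
    refine ⟨x⁻¹ * β x, ?_, by group⟩
    have h1 : x⁻¹ * β x ∈ f.ker := by rw [MonoidHom.mem_ker, map_mul, map_inv, hβ, inv_mul_cancel]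
    rw [hker, Subgroup.mem_subgroupOf] at h1
    exact h1
  let cC : Fin 9 → sub γ isC := fun i => ⟨cc γ i, h.Q_le (h.cc_mem i)⟩
  let aC : sub γ isC := ⟨γ 1, h.Q_le h.a_mem⟩
  have haC : β aC = aC := Subtype.ext (fix_a h β rfl)
  -- image of `c 0`
  have h0 : β (cC 0) = cC 0 ∨ β (cC 0) = cC 0 * aC := by
    have hyQ : ((β (cC 0) : sub γ isC) : G) ∈ Q0 γ := pres h β (h.cc_mem 0)
    obtain ⟨k, hk⟩ := exists_mask D hyQ
    have hinv : ∀ x ∈ [4,5,6,7,8,9], act9 x 0 = 0 → pm x k = k := by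
      intro x hx hx0
      obtain ⟨r, hrQ, hr2⟩ := hr ⟨γ x, h.letter_mem hx⟩
      have h1 := h.cc_conj' hx 0 0 hx0.symm
      have h2 : (⟨γ x, h.letter_mem hx⟩ : sub γ isC)⁻¹ * cC 0 * ⟨γ x, h.letter_mem hx⟩ = cC 0 := Subtype.ext h1
      have h3 := congrArg β h2
      rw [map_mul, map_mul, map_inv, hr2] at h3
      have h4 : (r : G)⁻¹ * ((γ x)⁻¹ * (β (cC 0) : sub γ isC) * γ x) * r = (β (cC 0) : sub γ isC) := by
        have h5 := congrArg Subtype.val h3
        simp only [Subgroup.coe_mul, Subgroup.coe_inv, mul_inv_rev] at h5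
        rw [← h5]
        conv_lhs => rw [h5]
        group
      have h5 := h.mask_letter hx hk
      have h6 : (γ x)⁻¹ * ((β (cC 0) : sub γ isC) : G) * γ x ∈ Q0 γ := h.Q_conj (h.letter_mem hx) hyQ
      have h7 := mask_conjQ h hrQ h6 h5
      rw [h4] at h7
      exact unique D h7 hk
    rcases inv_mask_eq hk.1 (par_eq D hyQ hk) (hinv 5 (by simp) (by decide +kernel))
      (hinv 6 (by simp) (by decide +kernel)) (hinv 8 (by simp) (by decide +kernel)) with h1 | h1
    · exfalso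
      rw [h1] at hk
      rcases eq_of_zero D h.cardQ hyQ hk with h2 | h2
      · have h3 : β (cC 0) = 1 := Subtype.ext h2
        have h4 : cC 0 = 1 := β.injective (by rw [h3, map_one])
        have h5 : cc γ 0 = 1 := congrArg Subtype.val h4
        have h6 := mask_c D 0
        rw [h5] at h6
        exact absurd (unique D h6 (mask_one D)) (by decide +kernel)
      · have h3 : β (cC 0) = β aC := by rw [haC]; exact Subtype.ext h2
        have h4 := β.injective h3
        have h5 : cc γ 0 = γ 1 := congrArg Subtype.val h4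
        have h6 := mask_c D 0
        rw [h5] at h6
        exact absurd (unique D h6 (mask_a D)) (by decide +kernel)
    · rw [h1] at hk
      have h2 := mask_c D 0
      have e : (511 ^^^ 2 ^ ((0 : Fin 9) : ℕ)) = 510 := by decide
      rw [e] at h2
      rcases eq_of_mask D h.cardQ (h.cc_mem 0) hyQ h2 hk with h3 | h3
      · exact Or.inl (Subtype.ext h3)
      · exact Or.inr (Subtype.ext h3)
  -- images of the `c i`
  have hi : ∀ i : Fin 9, ((β (cC i) : sub γ isC) : G) = cc γ i ∨ ((β (cC i) : sub γ isC) : G) = cc γ i * γ 1 := by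
    intro i
    have hwK : ∀ x ∈ rw' (i : ℕ), isC x = true := by
      have hc : allB 9 (fun i => allL isC (rw' i)) = true := by decide +kernel
      exact (allL_iff _ _).mp ((allB_iff _ _).mp hc i i.2)
    set g : sub γ isC := ⟨ev γ (rw' i), ev_mem_sub hwK⟩ with hg
    have e : cC i = g⁻¹ * cC 0 * g := by
      apply Subtype.ext
      show cc γ i = (ev γ (rw' i))⁻¹ * cc γ 0 * ev γ (rw' i)
      rw [cc_zero]
      unfold cc wc
      rw [ev_append, ev_iw h.inv, ev_cons]
      group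
    obtain ⟨r, hrQ, hr2⟩ := hr g
    have h1 : β (cC i) = r⁻¹ * (g⁻¹ * β (cC 0) * g) * r := by
      rw [e, map_mul, map_mul, map_inv, hr2]; group
    have hcQ : ((g⁻¹ * cC 0 * g : sub γ isC) : G) ∈ Q0 γ := by rw [← e]; exact h.cc_mem i
    have hga : g⁻¹ * aC * g = aC := by
      apply Subtype.ext
      exact h.a_conj g.2
    have hra : (r : sub γ isC)⁻¹ * aC * r = aC := by
      apply Subtype.ext
      exact h.a_conj r.2
    have hcj := conjQ h hrQ hcQ
    have hcj' : r⁻¹ * (g⁻¹ * cC 0 * g) * r = cC i ∨ r⁻¹ * (g⁻¹ * cC 0 * g) * r = cC i * aC := by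
      rw [e]
      rcases hcj with h2 | h2
      · exact Or.inl (Subtype.ext h2)
      · exact Or.inr (Subtype.ext h2)
    have haa : aC * aC = 1 := Subtype.ext h.aa
    rcases h0 with h0 | h0
    · rw [h0] at h1
      rcases hcj' with h2 | h2
      · left; rw [h1, h2]
      · right; rw [h1, h2]; rfl
    · have h3 : β (cC i) = r⁻¹ * (g⁻¹ * cC 0 * g) * r * aC := by
        rw [h1, h0]
        calc r⁻¹ * (g⁻¹ * (cC 0 * aC) * g) * r = r⁻¹ * (g⁻¹ * cC 0 * g * (g⁻¹ * aC * g)) * r := by group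
          _ = r⁻¹ * (g⁻¹ * cC 0 * g) * r * (r⁻¹ * aC * r) := by rw [hga]; group
          _ = _ := by rw [hra]
      rcases hcj' with h2 | h2
      · right; rw [h3, h2]; rfl
      · left; rw [h3, h2, mul_assoc, haa, mul_one]
  -- all of `Q0`
  obtain ⟨q, hqC⟩ := q
  have hq : q ∈ Q0 γ := hq
  have key : ∀ (x : G) (hx : x ∈ Q0 γ), ((β ⟨x, h.Q_le hx⟩ : sub γ isC) : G) = x ∨
      ((β ⟨x, h.Q_le hx⟩ : sub γ isC) : G) = x * γ 1 := by
    intro x hx
    refine Subgroup.closure_induction (p := fun x hx => ((β ⟨x, h.Q_le hx⟩ : sub γ isC) : G) = x ∨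
      ((β ⟨x, h.Q_le hx⟩ : sub γ isC) : G) = x * γ 1) ?_ ?_ ?_ ?_ hx
    · rintro y (rfl | ⟨i, rfl⟩)
      · left; exact congrArg Subtype.val haC
      · exact hi i
    · left
      have : (⟨1, h.Q_le (Subgroup.one_mem _)⟩ : sub γ isC) = 1 := rfl
      rw [this, map_one]; rfl
    · intro x y hx hy ihx ihy
      have e : (⟨x * y, h.Q_le (Subgroup.mul_mem _ hx hy)⟩ : sub γ isC) = ⟨x, h.Q_le hx⟩ * ⟨y, h.Q_le hy⟩ := rfl
      rw [e, map_mul, Subgroup.coe_mul]
      have hay : γ 1 * y = y * γ 1 := h.Q_comm hy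
      rcases ihx with h1 | h1 <;> rcases ihy with h2 | h2
      · left; rw [h1, h2]
      · right; rw [h1, h2, mul_assoc]
      · right; rw [h1, h2, mul_assoc, hay, mul_assoc]
      · left
        rw [h1, h2]
        calc x * γ 1 * (y * γ 1) = x * (γ 1 * y) * γ 1 := by group
          _ = x * y * (γ 1 * γ 1) := by rw [hay]; group
          _ = x * y := by rw [h.aa, mul_one]
    · intro x hx ihx
      have e : (⟨x⁻¹, h.Q_le (Subgroup.inv_mem _ hx)⟩ : sub γ isC) = (⟨x, h.Q_le hx⟩)⁻¹ := rfl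
      rw [e, map_inv, Subgroup.coe_inv]
      have ha' : (γ 1)⁻¹ = γ 1 := inv_eq_of_mul_eq_one_right h.aa
      rcases ihx with h1 | h1
      · left; rw [h1]
      · right
        rw [h1, mul_inv_rev, ha', h.Q_comm (Subgroup.inv_mem _ hx)]
  exact key q hq

/-- an automorphism of `C` does not induce the transposition (0 1) on `A9` -/
theorem not_odd {f : sub γ isC →* alternatingGroup (Fin 9)} (hker : f.ker = (Q0 γ).subgroupOf (sub γ isC))
    (hfw : ∀ (w : List ℕ) (hw : ∀ x ∈ w, isC x = true),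
      ((f ⟨ev γ w, ev_mem_sub hw⟩ : alternatingGroup (Fin 9)) : Equiv.Perm (Fin 9)) = ev (rho isTab9) w)
    (β : MulAut (sub γ isC))
    (hβ : ∀ x, ((f (β x) : alternatingGroup (Fin 9)) : Equiv.Perm (Fin 9)) =
      Equiv.swap 0 1 * ((f x : alternatingGroup (Fin 9)) : Equiv.Perm (Fin 9)) * (Equiv.swap 0 1)⁻¹) : False := by
  have D := h.data
  have hwx : ∀ x ∈ wx, isC x = true := by decide
  have hwy : ∀ x ∈ wy, isC x = true := by decide
  have hwx' : ∀ x ∈ wx, x ∈ [4,5,6,7,8,9] := by decide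
  set X : sub γ isC := ⟨ev γ wx, ev_mem_sub hwx⟩ with hX
  set Y : sub γ isC := ⟨ev γ wy, ev_mem_sub hwy⟩ with hY
  -- `β X = Y r`
  obtain ⟨r, hrQ, hr⟩ : ∃ r : sub γ isC, (r : G) ∈ Q0 γ ∧ β X = Y * r := by
    refine ⟨Y⁻¹ * β X, ?_, by group⟩
    have h1 : Y⁻¹ * β X ∈ f.ker := by
      rw [MonoidHom.mem_ker, map_mul, map_inv, inv_mul_eq_one]
      apply Subtype.ext
      rw [hβ X, hX, hY, hfw wx hwx, hfw wy hwy]
      exact conj_perm
    rw [hker, Subgroup.mem_subgroupOf] at h1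
    exact h1
  -- `v`
  have e0 : wv = wc 0 ++ (wc 3 ++ wc 4) := rfl
  have hv : ev γ wv = cc γ 0 * (cc γ 3 * cc γ 4) := by
    rw [e0, ev_append, ev_append]; rfl
  have hvQ : ev γ wv ∈ Q0 γ := by
    rw [hv]; exact Subgroup.mul_mem _ (h.cc_mem 0) (Subgroup.mul_mem _ (h.cc_mem 3) (h.cc_mem 4))
  set V : sub γ isC := ⟨ev γ wv, h.Q_le hvQ⟩ with hV
  have hYV : Y⁻¹ * V * Y = V := by
    apply Subtype.ext
    show (ev γ wy)⁻¹ * ev γ wv * ev γ wy = ev γ wv
    have hc := Cfsg.Agent.Th.COracleSound.corc_sound h.inv h.C fix_check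
    rw [ev_append, ev_append, ev_append, ev_iw h.inv, ev_iw h.inv] at hc
    rw [← mul_inv_eq_one, ← hc]; group
  have hvm : HM (γ 1) (cc γ) (ev γ wv) ((511 ^^^ 2 ^ ((0 : Fin 9) : ℕ)) ^^^ ((511 ^^^ 2 ^ ((3 : Fin 9) : ℕ)) ^^^
      (511 ^^^ 2 ^ ((4 : Fin 9) : ℕ)))) := by
    rw [hv]
    exact mul D (h.cc_mem 0) (mask_c D 0) (mul D (h.cc_mem 3) (mask_c D 3) (mask_c D 4))
  -- the preimage
  obtain ⟨V', hV'⟩ := β.surjective V
  have hV'Q : (V' : G) ∈ Q0 γ := by
    have h1 := pres h β.symm (q := V) hvQ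
    have h2 : β.symm V = V' := by rw [← hV', MulEquiv.symm_apply_apply]
    rwa [h2] at h1
  let aC : sub γ isC := ⟨γ 1, h.Q_le h.a_mem⟩
  have haC : β aC = aC := Subtype.ext (fix_a h β rfl)
  have hfix : X⁻¹ * V' * X = V' ∨ X⁻¹ * V' * X = V' * aC := by
    have h1 : β (X⁻¹ * V' * X) = r⁻¹ * V * r := by
      rw [map_mul, map_mul, map_inv, hr, hV']
      calc (Y * r)⁻¹ * V * (Y * r) = r⁻¹ * (Y⁻¹ * V * Y) * r := by group
        _ = _ := by rw [hYV]
    rcases conjQ h hrQ hvQ with h2 | h2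
    · left
      apply β.injective
      rw [h1, hV']
      exact Subtype.ext h2
    · right
      apply β.injective
      rw [h1, map_mul, hV', haC]
      exact Subtype.ext h2
  obtain ⟨k, hk⟩ := exists_mask D hV'Q
  have htr : ∀ w : List ℕ, (∀ x ∈ w, x ∈ [4,5,6,7,8,9]) → ∀ (y : G) (m : ℕ), HM (γ 1) (cc γ) y m →
      HM (γ 1) (cc γ) ((ev γ w)⁻¹ * y * ev γ w) (tr pm w m) := by
    intro w
    induction w with
    | nil => intro _ y m hm; simpa using hm
    | cons x w ih =>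
      intro hw y m hm
      have h1 := h.mask_letter (hw x List.mem_cons_self) hm
      have h2 := ih (fun z hz => hw z (List.mem_cons_of_mem _ hz)) _ _ h1
      have e : (ev γ (x :: w))⁻¹ * y * ev γ (x :: w) = (ev γ w)⁻¹ * ((γ x)⁻¹ * y * γ x) * ev γ w := by
        rw [ev_cons]; group
      rw [e]
      exact h2
  have h1 := htr wx hwx' _ _ hk
  have h2 : HM (γ 1) (cc γ) ((ev γ wx)⁻¹ * (V' : G) * ev γ wx) k := by
    rcases hfix with h3 | h3
    · have h4 : (ev γ wx)⁻¹ * (V' : G) * ev γ wx = V' := congrArg Subtype.val h3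
      rw [h4]; exact hk
    · have h4 : (ev γ wx)⁻¹ * (V' : G) * ev γ wx = V' * γ 1 := congrArg Subtype.val h3
      rw [h4]
      have := mul D hV'Q hk (mask_a D)
      rwa [Nat.xor_zero] at this
  have h3 := unique D h1 h2
  have hk0 : k = 0 := by
    have h4 := (allB_iff _ _).mp cyc_check k hk.1
    have e1 : parK k = false := by
      have := (allB_iff _ _).mp parK_check k hk.1
      rw [eq_of_beqB this, par_eq D hV'Q hk]
    rw [e1, h3, show Nat.beq k k = true from Nat.beq_refl k] at h4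
    simp only [Bool.false_or, Bool.not_true, Bool.or_false] at h4
    exact Nat.eq_of_beq_eq_true h4
  rw [hk0] at hk
  have h5 : ev γ wv = 1 ∨ ev γ wv = γ 1 := by
    rcases eq_of_zero D h.cardQ hV'Q hk with h6 | h6
    · left
      have h7 : V' = 1 := Subtype.ext h6
      rw [h7, map_one] at hV'
      exact (congrArg Subtype.val hV').symm
    · right
      have h7 : V' = aC := Subtype.ext h6
      rw [h7, haC] at hV'
      exact (congrArg Subtype.val hV').symm
  rcases h5 with h6 | h6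
  · rw [h6] at hvm
    exact absurd (unique D hvm (mask_one D)) (by decide +kernel)
  · rw [h6] at hvm
    exact absurd (unique D hvm (mask_a D)) (by decide +kernel)

/-- **every automorphism of `C` acts on `Q0 / ⟨a⟩` like an element of `C`** -/
theorem nor (β : MulAut (sub γ isC)) : ∃ c₀ : sub γ isC, ∀ q : sub γ isC, (q : G) ∈ Q0 γ →
    ((β q : sub γ isC) : G) = c₀ * q * (c₀ : G)⁻¹ ∨ ((β q : sub γ isC) : G) = c₀ * q * (c₀ : G)⁻¹ * γ 1 := by
  obtain ⟨f, hf, hker, hfw⟩ := h.exists_epi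
  have hfin := h.fin
  -- the induced automorphism of `A9`
  have hle : f.ker ≤ (f.comp β.toMonoidHom).ker := by
    intro x hx
    rw [MonoidHom.mem_ker]
    show f (β x) = 1
    rw [← MonoidHom.mem_ker, hker, Subgroup.mem_subgroupOf]
    rw [hker, Subgroup.mem_subgroupOf] at hx
    exact pres h β hx
  let g : alternatingGroup (Fin 9) →* alternatingGroup (Fin 9) :=
    f.liftOfSurjective hf ⟨f.comp β.toMonoidHom, hle⟩
  have hg : ∀ x, g (f x) = f (β x) := fun x =>
    f.liftOfRightInverse_comp_apply _ (Function.rightInverse_surjInv hf) ⟨f.comp β.toMonoidHom, hle⟩ x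
  have hgs : Function.Surjective g := by
    intro y
    obtain ⟨x, rfl⟩ := hf y
    obtain ⟨z, rfl⟩ := β.surjective x
    exact ⟨f z, hg z⟩
  have hgb : Function.Bijective g := hgs.bijective_of_finite
  let e : MulAut (alternatingGroup (Fin 9)) := MulEquiv.ofBijective g hgb
  obtain ⟨ψ, hψ⟩ := Cfsg.Agent.StandardComponent.AltAut.exists_autHom 9 (by norm_num)
  set σ := ψ e with hσ
  have hσ' : ∀ x, ((f (β x) : alternatingGroup (Fin 9)) : Equiv.Perm (Fin 9)) =
      σ * ((f x : alternatingGroup (Fin 9)) : Equiv.Perm (Fin 9)) * σ⁻¹ := by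
    intro x
    rw [← hg x]
    exact hψ e (f x)
  have hca : ∀ c : sub γ isC, (MulAut.conj c)⁻¹ * β = (MulAut.conj c)⁻¹ * β := fun _ => rfl
  have hval : ∀ (c x : sub γ isC), ((MulAut.conj c)⁻¹ * β) x = c⁻¹ * β x * c := by
    intro c x
    rw [MulAut.mul_apply, ← map_inv, MulAut.conj_apply, inv_inv]
  rcases Int.units_eq_one_or (Equiv.Perm.sign σ) with hs | hs
  · -- even
    obtain ⟨c, hc⟩ := hf ⟨σ, Equiv.Perm.mem_alternatingGroup.mpr hs⟩
    have hc' : ((f c : alternatingGroup (Fin 9)) : Equiv.Perm (Fin 9)) = σ := by rw [hc]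
    have h1 : ∀ x, f (((MulAut.conj c)⁻¹ * β) x) = f x := by
      intro x
      rw [hval, map_mul, map_mul, map_inv]
      apply Subtype.ext
      rw [Subgroup.coe_mul, Subgroup.coe_mul, Subgroup.coe_inv, hσ', hc']
      group
    refine ⟨c, fun q hq => ?_⟩
    have h2 := commutant h hker _ h1 hq
    rw [hval, Subgroup.coe_mul, Subgroup.coe_mul, Subgroup.coe_inv] at h2
    have h3 : ((β q : sub γ isC) : G) = c * ((c : G)⁻¹ * (β q : sub γ isC) * c) * (c : G)⁻¹ := by group
    rcases h2 with h2 | h2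
    · left; rw [h3, h2]
    · right
      rw [h3, h2]
      have h4 : (c : G) * γ 1 = γ 1 * c := h.mem_C.mp c.2
      have h5 : γ 1 * (c : G)⁻¹ = (c : G)⁻¹ * γ 1 := by
        rw [mul_inv_eq_iff_eq_mul, mul_assoc, ← h4, inv_mul_cancel_left]
      calc (c : G) * (q * γ 1) * (c : G)⁻¹ = c * q * (γ 1 * (c : G)⁻¹) := by group
        _ = c * q * (c : G)⁻¹ * γ 1 := by rw [h5]; group
  · -- odd
    exfalso
    have hm : σ * (Equiv.swap 0 1)⁻¹ ∈ alternatingGroup (Fin 9) := by
      rw [Equiv.Perm.mem_alternatingGroup, map_mul, hs, Equiv.swap_inv, Equiv.Perm.sign_swap (by decide)]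
      decide
    obtain ⟨c, hc⟩ := hf ⟨_, hm⟩
    have hc' : ((f c : alternatingGroup (Fin 9)) : Equiv.Perm (Fin 9)) = σ * (Equiv.swap 0 1)⁻¹ := by rw [hc]
    refine not_odd h hker hfw ((MulAut.conj c)⁻¹ * β) fun x => ?_
    rw [hval, map_mul, map_mul, map_inv, Subgroup.coe_mul, Subgroup.coe_mul, Subgroup.coe_inv, hσ', hc']
    group

end

end Cfsg.Agent.KFacts.Th.Nor
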