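import Cfsg.Agent.KFacts.Th.Fuse
import Cfsg.Agent.KFacts.Th.Nor
import Cfsg.Agent.KFacts.LargeSheet
import Cfsg.Agent.Th.Main475

/-!
# The sheet of type (E) of the Thompson group (helper950)

`data` : helper756's `LargeSheet.Data`, `sheet` : helper915's `SheetE`, `inner` : every automorphism of the presented
Thompson group is inner.
-/

set_option autoImplicit false
set_option maxRecDepth 100000

namespace Cfsg.Agent.KFacts.Th.Main

open Cfsg.Agent.Th.Base Cfsg.Agent.Th.Word Cfsg.Agent.Th.KOracle Cfsg.Agent.Th.CStruct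
  Cfsg.Agent.Th.COracleDef Cfsg.Agent.Th.IndexUpper
open Cfsg.Agent.KFacts.Th.Mask Cfsg.Agent.KFacts.Th.Struct

universe u

variable {G : Type u} [Group G] {γ : ℕ → G}

section

variable (h : Ctx γ)
include h

theorem large : Cfsg.Agent.Co2Type.Quad.Large (Q0 γ) (γ 1) where
  z_mem := h.a_mem
  z_ne := h.a1
  z_sq := h.aa
  comm_z := fun _ hx => (h.Q_comm hx).symm
  conj_mem := fun g hg x hx => by
    have h1 := h.Q_conj (Subgroup.inv_mem _ (h.mem_C.mpr hg)) hx
    rwa [inv_inv] at h1
  sq := fun _ hx => Cfsg.Agent.Th.NineExtra.sq_mem h.data hx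
  comm := fun x hx y hy => by
    have hyi := Subgroup.inv_mem _ hy
    rcases Nor.conjQ h hy hx with h1 | h1
    · left
      calc x * y = y * (y⁻¹ * x * y) := by group
        _ = y * x := by rw [h1]
    · right
      calc x * y = y * (y⁻¹ * x * y) := by group
        _ = y * x * γ 1 := by rw [h1, mul_assoc]
  cent := fun x hx hc => h.eq_of_cent hc
  self := fun g _ hg2 => by
    rcases h.eq_of_cent hg2 with h1 | h1
    · rw [h1]; exact Subgroup.one_mem _
    · rw [h1]; exact h.a_mem

/-- the data of helper756's `LargeSheet` -/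
theorem exists_data : ∃ π : Subgroup.centralizer ({γ 1} : Set G) →* alternatingGroup (Fin 9),
    Cfsg.Agent.KFacts.LargeSheet.Data (Q0 γ) (γ 1) (alternatingGroup (Fin 9)) π := by
  obtain ⟨f, hf, hker, -⟩ := h.exists_epi
  let e : Subgroup.centralizer ({γ 1} : Set G) ≃* sub γ isC := MulEquiv.subgroupCongr h.cent
  have he : ∀ x, ((e x : sub γ isC) : G) = x := fun _ => rfl
  have he' : ∀ x, ((e.symm x : Subgroup.centralizer ({γ 1} : Set G)) : G) = x := fun _ => rfl
  refine ⟨f.comp e.toMonoidHom, ?_⟩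
  constructor
  · exact large h
  · have m1 : (Equiv.swap 0 1 * Equiv.swap 1 2 : Equiv.Perm (Fin 9)) ∈ alternatingGroup (Fin 9) := by
      rw [Equiv.Perm.mem_alternatingGroup, map_mul, Equiv.Perm.sign_swap (by decide),
        Equiv.Perm.sign_swap (by decide)]
      decide
    have m2 : (Equiv.swap 0 1 * Equiv.swap 1 3 : Equiv.Perm (Fin 9)) ∈ alternatingGroup (Fin 9) := by
      rw [Equiv.Perm.mem_alternatingGroup, map_mul, Equiv.Perm.sign_swap (by decide),
        Equiv.Perm.sign_swap (by decide)]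
      decide
    refine ⟨⟨_, m1⟩, ⟨_, m2⟩, fun h2 => ?_⟩
    have h4 := congrArg Subtype.val h2
    have h5 : ((Equiv.swap 0 1 * Equiv.swap 1 2) * (Equiv.swap 0 1 * Equiv.swap 1 3) : Equiv.Perm (Fin 9)) 0 =
      ((Equiv.swap 0 1 * Equiv.swap 1 3) * (Equiv.swap 0 1 * Equiv.swap 1 2) : Equiv.Perm (Fin 9)) 0 :=
      congrArg (fun z : Equiv.Perm (Fin 9) => z 0) h4
    exact absurd h5 (by decide +kernel)
  · exact hf.comp e.surjective
  · intro c
    show f (e c) = 1 ↔ _
    rw [← MonoidHom.mem_ker, hker, Subgroup.mem_subgroupOf]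
    rfl
  · intro N hNQ hN
    by_cases hall : ∀ n ∈ N, n = 1 ∨ n = γ 1
    · exact Or.inl hall
    · right
      push Not at hall
      obtain ⟨x, hx, hx1, hxa⟩ := hall
      refine h.eq_top_of_normal N hNQ ?_ hx hx1 hxa
      intro g hg n hn
      have h1 := hN g⁻¹ (h.mem_C.mp (Subgroup.inv_mem _ hg)) n hn
      rwa [inv_inv] at h1
  · refine ⟨cc γ 0, h.cc_mem 0, ?_, ?_⟩
    · intro h1
      have h6 := mask_c h.data 0
      rw [h1] at h6
      exact absurd (unique h.data h6 (mask_one h.data)) (by decide +kernel)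
    · intro h1
      have h6 := mask_c h.data 0
      rw [h1] at h6
      exact absurd (unique h.data h6 (mask_a h.data)) (by decide +kernel)
  · rw [h.cent, h.index_eq]
    decide
  · intro β
    obtain ⟨c₀, hc₀⟩ := Nor.nor h ((e.symm.trans β).trans e)
    refine ⟨e.symm c₀, fun q hq => ?_⟩
    have h1 := hc₀ (e q) hq
    have h2 : ((e.symm.trans β).trans e) (e q) = e (β q) := by
      rw [MulEquiv.trans_apply, MulEquiv.trans_apply, MulEquiv.symm_apply_apply]
    rw [h2] at h1
    exact h1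
  · refine ⟨Fuse.nn γ, ?_, ?_, Fuse.gen h⟩
    · rw [Fuse.n_a h, ← cc_zero (γ := γ)]; exact h.cc_mem 0
    · rw [Fuse.n_a h, ← cc_zero (γ := γ)]
      intro h1
      have h6 := mask_c h.data 0
      rw [h1] at h6
      exact absurd (unique h.data h6 (mask_a h.data)) (by decide +kernel)
  · exact Fuse.out h

end

/-- the context of the presented Thompson group -/
theorem ctx : Ctx gTh := by
  obtain ⟨g, hcx⟩ := Cfsg.Agent.Th.Main475.exists_cx
  obtain ⟨-, h0, h1, h2⟩ := Cfsg.Agent.Th.Main1700.final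
  have hs : IsSimpleGroup Cfsg.Spor.Th := Cfsg.Agent.Th.Main1700.isTh.1
  exact ⟨gTh_inv, gTh_relK, rel_th.C, h1, Cfsg.Agent.Th.CentTh.card_C hcx h2 h1, Cfsg.Agent.Th.Main475.a_ne_one,
    Cfsg.Agent.Th.CentTh.centralizer_eq hcx h2 h1 hs Cfsg.Agent.Th.Main475.a_ne_one, gTh_top, h0⟩

theorem finite : Finite Cfsg.Spor.Th := ctx.fin

/-- the sheet of type (E) of `Th` -/
theorem sheet : Cfsg.Agent.OddHalf.D8.Sheet.SheetE (gTh 1) (Subgroup.centralizer ({gTh 1} : Set Cfsg.Spor.Th)) (Q0 gTh) := by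
  have := finite
  have hs : IsSimpleGroup (alternatingGroup (Fin 9)) := alternatingGroup.isSimpleGroup (by simp)
  obtain ⟨π, D⟩ := exists_data ctx
  exact D.sheet

/-- every automorphism of `Th` is inner -/
theorem inner (α : MulAut Cfsg.Spor.Th) : ∃ k : Cfsg.Spor.Th, α = MulAut.conj k := by
  have := finite
  have hs : IsSimpleGroup (alternatingGroup (Fin 9)) := alternatingGroup.isSimpleGroup (by simp)
  obtain ⟨π, D⟩ := exists_data ctx
  exact D.inner α

end Cfsg.Agent.KFacts.Th.Main
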