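import Cfsg.Agent.KFacts.Th.Lift
import Cfsg.Agent.Th.Main475

/-!
# The Thompson group has no perfect double cover (helper950)
-/

set_option autoImplicit false
set_option maxRecDepth 100000

namespace Cfsg.Agent.KFacts.Th.Double

open Cfsg.Agent.Th.Base Cfsg.Agent.Th.Word Cfsg.Agent.Th.RelWords Cfsg.Agent.Th.PermTab
  Cfsg.Agent.Th.KOracle Cfsg.Agent.Th.KPerm Cfsg.Agent.Th.NineAct Cfsg.Agent.Th.CStruct
  Cfsg.Agent.Th.COracleDef Cfsg.Agent.Th.TabFacts Cfsg.Agent.Th.CertTools Cfsg.Agent.Th.IndexUpper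
open Cfsg.Agent.KFacts.Th.Mask Cfsg.Agent.KFacts.Th.Struct Cfsg.Agent.KFacts.Th.Lift
open Cfsg.Agent.KFacts.MulDef Cfsg.Agent.KFacts.MulTwo

universe u v

variable {G : Type u} [Group G] {L : Type v} [Group L]

/-- the relations of `B` from the words -/
theorem relB_of_words {δ : ℕ → L} (hδ : InvCompat δ) (h : ∀ j < 19, ev δ (Sign.rel j) = 1) :
    RelB (δ 1) (δ 3) (δ 4) (δ 5) (δ 6) (δ 8) := by
  have i1 : (δ 1)⁻¹ = δ 1 := (hδ 1).symm
  have i3 : (δ 3)⁻¹ = δ 3 := (hδ 3).symm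
  have i4 : (δ 4)⁻¹ = δ 4 := (hδ 4).symm
  have i5 : (δ 5)⁻¹ = δ 5 := (hδ 5).symm
  have i6 : (δ 6)⁻¹ = δ 7 := (hδ 6).symm
  have i7 : (δ 7)⁻¹ = δ 6 := (hδ 7).symm
  have i8 : (δ 8)⁻¹ = δ 9 := (hδ 8).symm
  have i9 : (δ 9)⁻¹ = δ 8 := (hδ 9).symm
  have w0 : δ 1 * (δ 1 * 1) = 1 := h 0 (by norm_num)
  have w1 : δ 3 * (δ 3 * 1) = 1 := h 1 (by norm_num)
  have w2 : δ 4 * (δ 4 * 1) = 1 := h 2 (by norm_num)
  have w3 : δ 5 * (δ 5 * 1) = 1 := h 3 (by norm_num)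
  have w4 : δ 1 * (δ 5 * (δ 1 * (δ 5 * 1))) = 1 := h 4 (by norm_num)
  have w5 : δ 1 * (δ 4 * (δ 3 * (δ 4 * (δ 3 * (δ 4 * (δ 3 * (δ 4 * (δ 3 * 1)))))))) = 1 := h 5 (by norm_num)
  have w6 : δ 3 * (δ 5 * (δ 3 * (δ 5 * 1))) = 1 := h 6 (by norm_num)
  have w7 : δ 4 * (δ 5 * (δ 4 * (δ 5 * (δ 4 * (δ 5 * 1))))) = 1 := h 7 (by norm_num)
  have w8 : δ 6 * (δ 6 * (δ 6 * (δ 6 * (δ 6 * (δ 6 * (δ 6 * 1)))))) = 1 := h 8 (by norm_num)
  have w9 : δ 7 * (δ 1 * (δ 6 * (δ 1 * 1))) = 1 := h 9 (by norm_num)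
  have w10 : δ 7 * (δ 3 * (δ 6 * (δ 3 * 1))) = 1 := h 10 (by norm_num)
  have w11 : δ 6 * (δ 4 * (δ 6 * (δ 4 * 1))) = 1 := h 11 (by norm_num)
  have w12 : δ 5 * (δ 7 * (δ 5 * (δ 6 * (δ 7 * (δ 7 * (δ 7 * (δ 5 * (δ 6 * (δ 6 * (δ 6 * 1)))))))))) = 1 :=
    h 12 (by norm_num)
  have w13 : δ 8 * (δ 8 * (δ 8 * 1)) = 1 := h 13 (by norm_num)
  have w14 : δ 9 * (δ 1 * (δ 8 * (δ 1 * 1))) = 1 := h 14 (by norm_num)
  have w15 : δ 9 * (δ 3 * (δ 8 * (δ 3 * 1))) = 1 := h 15 (by norm_num)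
  have w16 : δ 9 * (δ 4 * (δ 8 * (δ 4 * 1))) = 1 := h 16 (by norm_num)
  have w17 : δ 9 * (δ 5 * (δ 8 * (δ 5 * 1))) = 1 := h 17 (by norm_num)
  have w18 : δ 9 * (δ 6 * (δ 8 * (δ 7 * (δ 7 * 1)))) = 1 := h 18 (by norm_num)
  simp only [mul_one] at w0 w1 w2 w3 w4 w5 w6 w7 w8 w9 w10 w11 w12 w13 w14 w15 w16 w17 w18
  refine ⟨?_, ?_, ?_, ?_, ?_, ?_, ?_, ?_, ?_, ⟨?_, ?_, ?_, ?_, ?_, ?_, ?_, ?_, ?_, ?_⟩⟩ <;>
    simp only [pow_succ, pow_zero, one_mul, mul_inv_rev, mul_assoc, i1, i3, i4, i5, i6, i7, i8, i9, inv_inv] <;>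
    assumption

section

variable {γ : ℕ → G} (h : Ctx γ) {π : L →* G} {z : L} (c : Cov π z)
include h c

/-- **lifts with the relations of `C`** -/
theorem exists_relC : ∃ δ : ℕ → L, Lifts π γ δ ∧ RelC (δ 1) (δ 3) (δ 4) (δ 5) (δ 6) (δ 8) (δ 10) := by
  obtain ⟨δ, D, h8, h13, h12, h7, h9, h5, h26⟩ := exists_lifts h c
  have hmost := most h c D h8 h13 h12 h7 h5 h26
  have hB := relB_of_words D.inv (fun j hj => hmost j (by omega) (by
    revert hj; revert j; decide))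
  have hz9 : (δ 3 * δ 4 * δ 5 * δ 6) ^ 9 = 1 := by
    rw [← h9]
    show (δ 3 * δ 4 * δ 5 * δ 6) ^ 9 = ev δ [3,4,5,6,3,4,5,6,3,4,5,6,3,4,5,6,3,4,5,6,3,4,5,6,3,4,5,6,3,4,5,6,3,4,5,6]
    simp only [ev_cons, ev_nil, pow_succ, pow_zero, one_mul, mul_assoc, mul_one]
  obtain ⟨hfB, hcB⟩ := Cfsg.Agent.Th.Bounds.cardB' hB (by rw [hz9]; exact Subgroup.one_mem _)
  rw [← Cfsg.Agent.Th.TabFacts.sub_isB_eq D.inv] at hfB hcB
  have hcG : Nat.card (sub γ isB) = 774144 := Cfsg.Agent.Th.KFacts.card_B h.inv h.K h.cardK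
  have hBC : ∀ x, isB x = true → isC x = true := fun x hx => isC_of_isB hx
  have hmap : (sub δ isB).map π = sub γ isB := by
    unfold sub
    rw [MonoidHom.map_closure]
    congr 1
    ext y
    constructor
    · rintro ⟨_, ⟨x, hx, rfl⟩, rfl⟩
      exact ⟨x, hx, (D.map x (hBC x hx)).symm⟩
    · rintro ⟨x, hx, rfl⟩
      exact ⟨δ x, ⟨x, hx, rfl⟩, D.map x (hBC x hx)⟩
  -- `z` is not in `sub δ isB`
  let ρ : sub δ isB →* sub γ isB := (π.comp (sub δ isB).subtype).codRestrict (sub γ isB) (fun x => by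
    rw [← hmap]; exact ⟨x, x.2, rfl⟩)
  have hρ : Function.Surjective ρ := by
    rintro ⟨y, hy⟩
    rw [← hmap] at hy
    obtain ⟨x, hx, rfl⟩ := hy
    exact ⟨⟨x, hx⟩, rfl⟩
  have hρi : Function.Injective ρ := by
    have h1 : Nat.card (sub δ isB) = Nat.card (sub γ isB) := le_antisymm (by rw [hcG]; exact hcB)
      (Nat.card_le_card_of_surjective ρ hρ)
    exact ((Nat.bijective_iff_surjective_and_card ρ).mpr ⟨hρ, h1⟩).1
  have hz1 : z ∉ sub δ isB := by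
    intro hz
    have h1 : ρ ⟨z, hz⟩ = 1 := Subtype.ext ((c.ker z).mpr (Or.inr rfl))
    have h2 : (⟨z, hz⟩ : sub δ isB) = 1 := hρi (by rw [h1, map_one])
    exact c.ne (congrArg Subtype.val h2)
  -- representatives
  obtain ⟨r, hr0, hr⟩ := Cfsg.Agent.Th.TabC.exists_reps h.C
  choose q hq using fun p => c.surj (r p)
  let r' : ℕ → L := fun p => if p = 0 then 1 else q p
  have hr' : ∀ p, π (r' p) = r p := by
    intro p
    show π (if p = 0 then 1 else q p) = r p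
    split_ifs with h0
    · rw [h0, hr0, map_one]
    · exact hq p
  have hstep : ∀ p < 120, ∀ x, isC x = true → r p * γ x * (r (act120 x p))⁻¹ ∈ sub γ isB := by
    intro p hp x hx
    have i7 : γ 7 = (γ 6)⁻¹ := h.inv 6
    have i9 : γ 9 = (γ 8)⁻¹ := h.inv 8
    have i11 : γ 11 = (γ 10)⁻¹ := h.inv 10
    rw [isC_iff] at hx
    obtain ⟨y, hy, rfl⟩ : ∃ y, y < 10 ∧ x = codeC y := by
      rcases Nat.lt_or_ge x 2 with h1 | h1
      · exact ⟨0, by norm_num, by simp [codeC]; omega⟩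
      · refine ⟨x - 2, by omega, ?_⟩
        have : x - 2 ≠ 0 := by omega
        simp only [codeC, cond_eq_ite, Nat.beq_eq, this, if_false]
        show x = (x - 2) + 2
        omega
    have h1 := hr p hp y hy
    have h2 := Nat.beq_eq.mp ((allB_iff _ _).mp ((allB_iff _ _).mp tabC_check p hp) y hy)
    have h3 : Cfsg.Agent.Th.Bounds.gC (γ 1) (γ 3) (γ 4) (γ 5) (γ 6) (γ 8) (γ 10) y = γ (codeC y) := by
      interval_cases y
      · rfl
      · rfl
      · rfl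
      · rfl
      · rfl
      · exact i7.symm
      · rfl
      · exact i9.symm
      · rfl
      · exact i11.symm
    rw [h3, ← h2, ← Cfsg.Agent.Th.TabFacts.sub_isB_eq h.inv] at h1
    exact h1
  have hrelC : ∀ i < 29, Sign.rel i ∈ relC := by decide
  have hCl : ∀ i < 29, ∀ x ∈ Sign.rel i, isC x = true := by decide
  have hrw := words_of_relC h.inv h.C
  have S : Sign.Data δ r' z ((sub γ isB).comap π) (sub δ isB) :=
    { inv := D.inv
      zz := c.sq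
      cen := c.cen
      zB := by rw [Subgroup.mem_comap, (c.ker z).mpr (Or.inr rfl)]; exact Subgroup.one_mem _
      z1 := hz1
      le := by rw [← Subgroup.map_le_iff_le_comap, hmap]
      or_mem := by
        intro x hx
        rw [Subgroup.mem_comap, ← hmap] at hx
        obtain ⟨y, hy, hyx⟩ := hx
        rcases c.of_eq hyx with h1 | h1
        · left; rw [← h1]; exact hy
        · right; rw [← h1]; exact hy
      r0 := rfl
      step := by
        intro p hp x hx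
        rw [Subgroup.mem_comap, map_mul, map_mul, map_inv, hr', hr', D.map x hx]
        exact hstep p hp x hx
      gen := fun x hx => Subgroup.subset_closure ⟨x, hx, rfl⟩
      rel := fun i hi => (c.ker _).mp (by rw [D.ev (hCl i hi)]; exact hrw _ (hrelC i hi)) }
  have hall := S.all_one hmost
  refine ⟨δ, D, relC_of_words D.inv fun w hw => ?_⟩
  obtain ⟨i, hi, rfl⟩ := List.getElem_of_mem hw
  have h1 := hall i hi
  unfold Sign.rel at h1
  rw [List.getD_eq_getElem _ _ hi] at h1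
  exact h1

end

/-- **a group with the structure of `Th` has no perfect double cover** -/
theorem false_of_dbl {γ : ℕ → G} (h : Ctx γ) [Finite L] {π : L →* G} {z : L} (hd : Dbl π z) : False := by
  have c : Cov π z := ⟨hd.surj, hd.ker, hd.ne, hd.sq, hd.cen⟩
  obtain ⟨δ, D, hC⟩ := exists_relC h c
  have hb := Cfsg.Agent.Th.BoundsC.cardC hC
  rw [← Cfsg.Agent.Th.TabFacts.sub_isC_eq D.inv] at hb
  have hmap : (sub δ isC).map π = sub γ isC := by
    unfold sub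
    rw [MonoidHom.map_closure]
    congr 1
    ext y
    constructor
    · rintro ⟨_, ⟨x, hx, rfl⟩, rfl⟩
      exact ⟨x, hx, (D.map x hx).symm⟩
    · rintro ⟨x, hx, rfl⟩
      exact ⟨δ x, ⟨x, hx, rfl⟩, D.map x hx⟩
  let ρ : sub δ isC →* sub γ isC := (π.comp (sub δ isC).subtype).codRestrict (sub γ isC) (fun x => by
    rw [← hmap]; exact ⟨x, x.2, rfl⟩)
  have hρ : Function.Surjective ρ := by
    rintro ⟨y, hy⟩
    rw [← hmap] at hy
    obtain ⟨x, hx, rfl⟩ := hy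
    exact ⟨⟨x, hx⟩, rfl⟩
  have hρi : Function.Injective ρ := by
    have h1 : Nat.card (sub δ isC) = Nat.card (sub γ isC) := le_antisymm (by rw [h.cardC]; exact hb.2)
      (Nat.card_le_card_of_surjective ρ hρ)
    exact ((Nat.bijective_iff_surjective_and_card ρ).mpr ⟨hρ, h1⟩).1
  have hz1 : z ∉ sub δ isC := by
    intro hz
    have h1 : ρ ⟨z, hz⟩ = 1 := Subtype.ext ((c.ker z).mpr (Or.inr rfl))
    have h2 : (⟨z, hz⟩ : sub δ isC) = 1 := hρi (by rw [h1, map_one])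
    exact c.ne (congrArg Subtype.val h2)
  have hzP : z ∈ (sub γ isC).comap π := by
    rw [Subgroup.mem_comap, (c.ker z).mpr (Or.inr rfl)]; exact Subgroup.one_mem _
  refine hd.toCtr.false_of_compl (P := (sub γ isC).comap π) (P₁ := sub δ isC) hzP ?_ hz1 ?_
  · rw [Subgroup.index_comap_of_surjective _ c.surj, h.index_eq]
    norm_num
  · intro x hx
    rw [Subgroup.mem_comap, ← hmap] at hx
    obtain ⟨y, hy, hyx⟩ := hx
    rcases c.of_eq hyx with h1 | h1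
    · left; rw [← h1]; exact hy
    · right; rw [← h1]; exact hy

end Cfsg.Agent.KFacts.Th.Double
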