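import Cfsg.Agent.KFacts.Th.Struct
import Cfsg.Agent.Th.COracleSound

/-!
# Fusion in the Thompson group (helper950)

`c = n a n⁻¹`, `G = ⟨C_G(a), n⟩`, and `d` is a conjugate of `a` in `C_G(a)` outside `Q0`.
-/

set_option autoImplicit false
set_option maxRecDepth 100000

namespace Cfsg.Agent.KFacts.Th.Fuse

open Cfsg.Agent.Th.Base Cfsg.Agent.Th.Word Cfsg.Agent.Th.RelWords Cfsg.Agent.Th.PermTab
  Cfsg.Agent.Th.KOracle Cfsg.Agent.Th.KPerm Cfsg.Agent.Th.NineAct Cfsg.Agent.Th.CStruct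
  Cfsg.Agent.Th.COracleDef
open Cfsg.Agent.KFacts.Th.Mask Cfsg.Agent.KFacts.Th.Struct

universe u

variable {G : Type u} [Group G] {γ : ℕ → G}

/-- the word of `n⁻¹` -/
def wN : List ℕ := [4,3,2,1,4,3,2]

/-- the four-term product `c₀c₂c₃c₅` -/
def wF : List ℕ := wc 0 ++ (wc 2 ++ (wc 3 ++ wc 5))

/-- path from the product to `d` -/
def wP : List ℕ := [3,2,1,4,3,2,8,6,5,4,3,7,5]

/-- the element `n` -/
def nn (γ : ℕ → G) : G := (ev γ wN)⁻¹

theorem checkN : korc (iw wN ++ (1 :: (wN ++ [3]))) = true := by decide +kernel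

theorem checkB : and (allL isK (wN ++ (4 :: (wN ++ (4 :: (wN ++ (wN ++ [2])))))))
    (Nat.beq (tr act (wN ++ (4 :: (wN ++ (4 :: (wN ++ (wN ++ [2])))))) 0) 0) = true := by decide +kernel

theorem checkU : corc (11 :: (wc 7 ++ (10 :: iw wF))) = true := by decide +kernel

theorem checkP : korc (iw wP ++ (wF ++ (wP ++ [4]))) = true := by decide +kernel

theorem check7 : korc (iw (rw' 7) ++ (3 :: (rw' 7 ++ iw (wc 7)))) = true := by decide +kernel

section

variable (h : Ctx γ)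
include h

theorem korc1 {w : List ℕ} (hw : korc w = true) : ev γ w = 1 := korc_sound boundK h.inv h.K hw

theorem n_a : nn γ * γ 1 * (nn γ)⁻¹ = γ 3 := by
  have h1 := korc1 h checkN
  rw [ev_append, ev_cons, ev_append, ev_singleton, ev_iw h.inv] at h1
  have h3 : γ 3 * γ 3 = 1 := by rw [← pow_two]; exact h.K.c2
  unfold nn
  rw [inv_inv]
  have h2 : (ev γ wN)⁻¹ * γ 1 * ev γ wN * γ 3 = 1 := by rw [← h1]; group
  rw [eq_inv_of_mul_eq_one_left h2]
  exact inv_eq_of_mul_eq_one_right h3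

theorem gen : Subgroup.closure ({c : G | c * γ 1 = γ 1 * c} ∪ {nn γ}) = ⊤ := by
  set H := Subgroup.closure ({c : G | c * γ 1 = γ 1 * c} ∪ {nn γ}) with hH
  have hC : sub γ isC ≤ H := fun x hx => Subgroup.subset_closure (Or.inl (h.mem_C.mp hx))
  have hn : nn γ ∈ H := Subgroup.subset_closure (Or.inr rfl)
  have hN : ev γ wN ∈ H := by
    have := Subgroup.inv_mem _ hn
    unfold nn at this
    rwa [inv_inv] at this
  have hB : ev γ (wN ++ (4 :: (wN ++ (4 :: (wN ++ (wN ++ [2])))))) ∈ sub γ isB := by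
    have hc := checkB
    rw [Bool.and_eq_true] at hc
    exact Cfsg.Agent.Th.TabFacts.mem_B_of_fix h.inv h.K _ ((allL_iff _ _).mp hc.1)
      (Nat.eq_of_beq_eq_true hc.2)
  have hBH : ∀ x ∈ sub γ isB, x ∈ H := by
    intro x hx
    apply hC
    have : sub γ isB ≤ sub γ isC := by
      unfold sub
      apply Subgroup.closure_mono
      rintro g ⟨x, hx, rfl⟩
      exact ⟨x, isC_of_isB hx, rfl⟩
    exact this hx
  have h4 : γ 4 ∈ H := hC (h.letter_mem (by simp))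
  have h2 : γ 2 ∈ H := by
    have h5 := hBH _ hB
    simp only [ev_append, ev_cons, ev_singleton] at h5
    have h6 : ev γ wN * (γ 4 * (ev γ wN * (γ 4 * (ev γ wN * ev γ wN)))) ∈ H :=
      H.mul_mem hN (H.mul_mem h4 (H.mul_mem hN (H.mul_mem h4 (H.mul_mem hN hN))))
    have h7 := H.mul_mem (H.inv_mem h6) h5
    have e : (ev γ wN * (γ 4 * (ev γ wN * (γ 4 * (ev γ wN * ev γ wN)))))⁻¹ *
        (ev γ wN * (γ 4 * (ev γ wN * (γ 4 * (ev γ wN * (ev γ wN * (γ 2 * ev γ []))))))) = γ 2 := by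
      rw [ev_nil]; group
    rw [ev_nil] at e
    simp only [ev_nil] at h7
    rw [e] at h7
    exact h7
  rw [eq_top_iff, ← h.top]
  unfold sub
  rw [Subgroup.closure_le]
  rintro g ⟨x, hx, rfl⟩
  by_cases hx2 : x = 2
  · rw [hx2]; exact h2
  · apply hC
    refine Subgroup.subset_closure ⟨x, ?_, rfl⟩
    rw [Bool.or_eq_true, isK_iff, isC_iff] at hx
    rw [isC_iff]
    omega

/-- the element conjugating `a` to `d` -/
def kk (γ : ℕ → G) : G := (ev γ wN * ev γ (rw' 7) * γ 10 * ev γ wP)⁻¹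

theorem k_a : kk γ * γ 1 * (kk γ)⁻¹ = γ 4 := by
  have h0 := n_a h
  unfold nn at h0
  rw [inv_inv] at h0
  have h7 := korc1 h check7
  rw [ev_append, ev_cons, ev_append, ev_iw h.inv, ev_iw h.inv] at h7
  have hU := Cfsg.Agent.Th.COracleSound.corc_sound h.inv h.C checkU
  rw [ev_cons, ev_append, ev_cons, ev_iw h.inv, show γ 11 = (γ 10)⁻¹ from h.inv 10] at hU
  have hP := korc1 h checkP
  rw [ev_append, ev_append, ev_append, ev_singleton, ev_iw h.inv] at hP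
  have h4 : γ 4 * γ 4 = 1 := by rw [← pow_two]; exact h.K.d2
  have e7 : (ev γ (rw' 7))⁻¹ * γ 3 * ev γ (rw' 7) = ev γ (wc 7) := by
    rw [← mul_inv_eq_one, ← h7]; group
  have eU : (γ 10)⁻¹ * ev γ (wc 7) * γ 10 = ev γ wF := by
    rw [← mul_inv_eq_one, ← hU]; group
  have eP : (ev γ wP)⁻¹ * ev γ wF * ev γ wP = γ 4 := by
    have h5 : (ev γ wP)⁻¹ * ev γ wF * ev γ wP * γ 4 = 1 := by rw [← hP]; group
    rw [eq_inv_of_mul_eq_one_left h5]
    exact inv_eq_of_mul_eq_one_right h4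
  unfold kk
  rw [inv_inv, ← eP, ← eU, ← e7, ← h0]
  group

theorem d_notMem : γ 4 ∉ Q0 γ := by
  intro h4
  obtain ⟨f, -, hker, hfw⟩ := h.exists_epi
  have h1 : (⟨γ 4, h.Q_le h4⟩ : sub γ isC) ∈ f.ker := by rw [hker, Subgroup.mem_subgroupOf]; exact h4
  rw [MonoidHom.mem_ker] at h1
  have hw : ∀ x ∈ [4], isC x = true := by decide
  have h2 := hfw [4] hw
  have h3 : (⟨ev γ [4], ev_mem_sub hw⟩ : sub γ isC) = ⟨γ 4, h.Q_le h4⟩ := Subtype.ext (ev_singleton γ 4)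
  rw [h3, h1] at h2
  have h5 := ev_rho_inv_apply isTab9 hw (0 : Fin 9)
  rw [← h2] at h5
  revert h5
  simp
  decide +kernel

theorem out : ∃ k : G, (k * γ 1 * k⁻¹) * γ 1 = γ 1 * (k * γ 1 * k⁻¹) ∧ k * γ 1 * k⁻¹ ∉ Q0 γ := by
  refine ⟨kk γ, ?_, ?_⟩
  · rw [k_a h]
    exact h.mem_C.mp (h.letter_mem (by simp))
  · rw [k_a h]
    exact d_notMem h

end

end Cfsg.Agent.KFacts.Th.Fuse
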