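import Cfsg.Agent.Th.TabFacts

/-!
# Signs of the relators of `2^{1+8}.A9` in a double cover (helper950)

Letters `δ` in a group `L` with a central involution `z`; the relators of `Th.RelWords.relC` take the values `1` or `z`
on `δ`, the value `1` for all of them except possibly those with the numbers 19, 23, 27, 28; there are
representatives `r p` of the 120 cosets of `B` in `C`, and `B₁` is a complement of `z` in the preimage of `B`. Then all
the relators take the value `1` (`all_one`): certificates for the signs of the edges of the coset table.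
-/

set_option autoImplicit false
set_option maxRecDepth 100000

namespace Cfsg.Agent.KFacts.Th.Sign

open Cfsg.Agent.Th.Word Cfsg.Agent.Th.RelWords Cfsg.Agent.Th.KOracle Cfsg.Agent.Th.COracleDef
  Cfsg.Agent.Th.TabFacts Cfsg.Agent.Th.PermTab

/-! ### a linear form on masks -/

/-- the sum of `s i` over the bits `i < n` of `m` -/
def V (s : ℕ → Bool) : ℕ → ℕ → Bool
  | 0, _ => false
  | n + 1, m => (m.testBit n && s n) ^^ V s n m

theorem V_xor (s : ℕ → Bool) (n m k : ℕ) : V s n (m ^^^ k) = (V s n m ^^ V s n k) := by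
  induction n with
  | zero => rfl
  | succ n ih =>
    show (((m ^^^ k).testBit n && s n) ^^ V s n (m ^^^ k)) = _
    rw [ih, Nat.testBit_xor]
    show _ = (((m.testBit n && s n) ^^ V s n m) ^^ ((k.testBit n && s n) ^^ V s n k))
    generalize V s n m = a
    generalize V s n k = b
    cases m.testBit n <;> cases k.testBit n <;> cases s n <;> cases a <;> cases b <;> rfl

theorem V_zero (s : ℕ → Bool) (n : ℕ) : V s n 0 = false := by
  induction n with
  | zero => rfl
  | succ n ih =>
    show (((0 : ℕ).testBit n && s n) ^^ V s n 0) = false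
    rw [ih, Nat.zero_testBit]; rfl

theorem V_bit (s : ℕ → Bool) {n i : ℕ} (hi : i < n) : V s n (2 ^ i) = s i := by
  induction n with
  | zero => omega
  | succ n ih =>
    show (((2 ^ i).testBit n && s n) ^^ V s n (2 ^ i)) = s i
    by_cases h : i = n
    · subst h
      rw [Nat.testBit_two_pow_self, Bool.true_and]
      have : ∀ m, m ≤ i → V s m (2 ^ i) = false := by
        intro m
        induction m with
        | zero => intro _; rfl
        | succ m ihm =>
          intro hm
          show (((2 ^ i).testBit m && s m) ^^ V s m (2 ^ i)) = false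
          rw [ihm (by omega), Nat.testBit_two_pow_of_ne (by omega)]; rfl
      rw [this i le_rfl, Bool.xor_false]
    · rw [Nat.testBit_two_pow_of_ne h, ih (by omega)]
      simp

/-! ### masks of words -/

/-- number of the edge `(x, p)` -/
def em (x p : ℕ) : ℕ :=
  Bool.rec (Nat.add (Nat.mul 128 x) p) (Nat.add (Nat.mul 128 (Nat.pred x)) (act120 x p))
    (or (Nat.beq x 7) (or (Nat.beq x 9) (Nat.beq x 11)))

/-- mask of the path of a word from `p` -/
def wm (w : List ℕ) : ℕ → ℕ :=
  List.rec (fun _ => 0) (fun x _ ih p => Nat.xor (Nat.pow 2 (em x p)) (ih (act120 x p))) w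

theorem wm_nil (p : ℕ) : wm [] p = 0 := rfl
theorem wm_cons (x : ℕ) (w : List ℕ) (p : ℕ) : wm (x :: w) p = 2 ^ em x p ^^^ wm w (act120 x p) := rfl

/-- the relator with number `i` -/
def rel (i : ℕ) : List ℕ := relC.getD i []

/-- mask of an entry of a certificate: the relator `i` at the point `p`, a generator of `B` at 0, or the sign of a
relator -/
def msk (n : ℕ) : ℕ :=
  Bool.rec (Bool.rec
      (Nat.xor (wm (rel (Nat.div n 128)) (Nat.mod n 128)) (Nat.pow 2 (Nat.add 1500 (Nat.div n 128))))
      (Nat.pow 2 (Nat.mul 128 (Nat.mod n 128))) (Nat.beq (Nat.div n 128) 30))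
    (Nat.pow 2 (Nat.add 1500 (Nat.mod n 128))) (Nat.beq (Nat.div n 128) 31)

/-- validity of an entry; `kn` = numbers of relators known to have sign `1` -/
def ok (kn : ℕ → Bool) (n : ℕ) : Bool :=
  Bool.rec (Bool.rec
      (and (Nat.blt (Nat.div n 128) 29) (and (Nat.blt (Nat.mod n 128) 120)
        (and (allL isC (rel (Nat.div n 128)))
          (Nat.beq (tr act120 (rel (Nat.div n 128)) (Nat.mod n 128)) (Nat.mod n 128)))))
      (and (isB (Nat.mod n 128)) (and (Nat.beq (act120 (Nat.mod n 128) 0) 0)
        (Bool.not (or (Nat.beq (Nat.mod n 128) 7) (Nat.beq (Nat.mod n 128) 9))))) (Nat.beq (Nat.div n 128) 30))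
    (and (Nat.blt (Nat.mod n 128) 29) (kn (Nat.mod n 128))) (Nat.beq (Nat.div n 128) 31)

/-- the sum of the masks -/
def total (l : List ℕ) : ℕ := List.rec 0 (fun n _ ih => Nat.xor (msk n) ih) l

/-- a certificate for the relator `i` -/
def cert (kn : ℕ → Bool) (l : List ℕ) (i : ℕ) : Bool := and (allG (ok kn) l) (Nat.beq (total l) (Nat.pow 2 (Nat.add 1500 i)))

theorem V_total (s : ℕ → Bool) (l : List ℕ) (h : ∀ n ∈ l, V s 1600 (msk n) = false) :
    V s 1600 (total l) = false := by
  induction l with
  | nil => exact V_zero _ _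
  | cons n l ih =>
    show V s 1600 (msk n ^^^ total l) = false
    rw [V_xor, h n List.mem_cons_self, ih fun k hk => h k (List.mem_cons_of_mem _ hk)]
    rfl

/-- the relators of unknown sign -/
def un0 (j : ℕ) : Bool := Bool.not (or (Nat.beq j 19) (or (Nat.beq j 23) (or (Nat.beq j 27) (Nat.beq j 28))))
def un1 (j : ℕ) : Bool := Bool.not (or (Nat.beq j 23) (or (Nat.beq j 27) (Nat.beq j 28)))

def certDedu : List ℕ := [
  2948]

def certDus : List ℕ := [
  261, 262, 265, 395, 397, 402, 641, 651, 653, 781, 786, 896, 901, 902, 905, 1285, 1286, 1298, 1537, 1542,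
  2064, 2072, 2433, 2445, 2816, 3595, 3970, 3971, 3973, 3978, 3990]

def certU2 : List ℕ := [
  261, 263, 277, 337, 397, 402, 406, 414, 449, 640, 641, 642, 643, 645, 658, 661, 670, 691, 781, 1285, 1291,
  1292, 1298, 1299, 1300, 1301, 1302, 1303, 1310, 1319, 1330, 1331, 2432, 2433, 2434, 2435, 2437, 2450, 2453,
  2462, 2483, 2834, 2846, 2867, 2949, 2951, 3843, 3971, 3973, 3974, 3978, 3990]

def certUs4 : List ℕ := [
  645, 646, 1024, 1025, 1286, 2437, 2438, 2440, 3464, 3978, 3987]

theorem checkDedu : cert un0 certDedu 23 = true := by decide +kernel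
theorem checkDus : cert un0 certDus 28 = true := by decide +kernel
theorem checkU2 : cert un0 certU2 19 = true := by decide +kernel
theorem checkUs4 : cert un1 certUs4 27 = true := by decide +kernel

/-! ### signs in a double cover -/

variable {L : Type*} [Group L]

/-- the data -/
structure Data (δ r : ℕ → L) (z : L) (B B₁ : Subgroup L) : Prop where
  inv : InvCompat δ
  zz : z * z = 1
  cen : ∀ x, z * x = x * z
  zB : z ∈ B
  z1 : z ∉ B₁
  le : B₁ ≤ B
  or_mem : ∀ x ∈ B, x ∈ B₁ ∨ z * x ∈ B₁
  r0 : r 0 = 1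
  step : ∀ p < 120, ∀ x, isC x = true → r p * δ x * (r (act120 x p))⁻¹ ∈ B
  gen : ∀ x, isB x = true → δ x ∈ B₁
  rel : ∀ i < 29, ev δ (rel i) = 1 ∨ ev δ (rel i) = z

namespace Data

variable {δ r : ℕ → L} {z : L} {B B₁ : Subgroup L} (D : Data δ r z B B₁)

open Classical in
/-- the sign -/
noncomputable def chi (B₁ : Subgroup L) (x : L) : Bool := decide (x ∉ B₁)

theorem chi_true {x : L} : chi B₁ x = true ↔ x ∉ B₁ := by simp [chi]

theorem chi_false {x : L} : chi B₁ x = false ↔ x ∈ B₁ := by simp [chi]

include D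

theorem chi_mul {x y : L} (hx : x ∈ B) (hy : y ∈ B) : chi B₁ (x * y) = (chi B₁ x ^^ chi B₁ y) := by
  by_cases h1 : x ∈ B₁ <;> by_cases h2 : y ∈ B₁
  · rw [chi_false.mpr h1, chi_false.mpr h2, chi_false.mpr (B₁.mul_mem h1 h2)]; rfl
  · rw [chi_false.mpr h1, chi_true.mpr h2, chi_true.mpr]
    · rfl
    · intro h3
      apply h2
      have := B₁.mul_mem (B₁.inv_mem h1) h3
      rwa [inv_mul_cancel_left] at this
  · rw [chi_true.mpr h1, chi_false.mpr h2, chi_true.mpr]
    · rfl
    · intro h3
      apply h1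
      have := B₁.mul_mem h3 (B₁.inv_mem h2)
      rwa [mul_inv_cancel_right] at this
  · have h3 := (D.or_mem x hx).resolve_left h1
    have h4 := (D.or_mem y hy).resolve_left h2
    have h5 := B₁.mul_mem h3 h4
    have e : z * x * (z * y) = x * y := by
      calc z * x * (z * y) = z * (x * z) * y := by group
        _ = z * z * x * y := by rw [← D.cen x]; group
        _ = x * y := by rw [D.zz, one_mul]
    rw [e] at h5
    rw [chi_true.mpr h1, chi_true.mpr h2, chi_false.mpr h5]; rfl

theorem chi_inv {x : L} (hx : x ∈ B) : chi B₁ x⁻¹ = chi B₁ x := by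
  have h1 := D.chi_mul hx (B.inv_mem hx)
  rw [mul_inv_cancel, chi_false.mpr B₁.one_mem] at h1
  revert h1
  cases chi B₁ x <;> cases chi B₁ x⁻¹ <;> decide

/-- the signs of the edges and of the relators -/
noncomputable def sgn (δ r : ℕ → L) (B₁ : Subgroup L) (i : ℕ) : Bool :=
  if i < 1500 then chi B₁ (r (i % 128) * δ (i / 128) * (r (act120 (i / 128) (i % 128)))⁻¹)
  else chi B₁ (ev δ (Sign.rel (i - 1500)))

omit D in
theorem sgn_edge (x p : ℕ) (hx : x < 11) (hp : p < 120) :
    sgn δ r B₁ (128 * x + p) = chi B₁ (r p * δ x * (r (act120 x p))⁻¹) := by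
  unfold sgn
  rw [if_pos (by omega)]
  have e1 : (128 * x + p) % 128 = p := by omega
  have e2 : (128 * x + p) / 128 = x := by omega
  rw [e1, e2]

theorem sgn_em {x p : ℕ} (hx : isC x = true) (hp : p < 120) :
    sgn δ r B₁ (em x p) = chi B₁ (r p * δ x * (r (act120 x p))⁻¹) ∧ em x p < 1500 := by
  have hlt : act120 x p < 120 := isTab120.lt x hx p hp
  by_cases h : x = 7 ∨ x = 9 ∨ x = 11
  · have e : em x p = 128 * (x - 1) + act120 x p := by
      unfold em
      have : (or (Nat.beq x 7) (or (Nat.beq x 9) (Nat.beq x 11))) = true := by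
        rcases h with rfl | rfl | rfl <;> rfl
      rw [this]; rfl
    rw [e]
    have hx' : invL x = x - 1 := by rcases h with rfl | rfl | rfl <;> rfl
    have h1 := isTab120.inv x hx p hp
    rw [hx'] at h1
    refine ⟨?_, by omega⟩
    rw [sgn_edge _ _ (by omega) hlt, h1]
    have h2 : δ (x - 1) = (δ x)⁻¹ := by rw [← hx']; exact D.inv x
    rw [h2]
    have h3 : r (act120 x p) * (δ x)⁻¹ * (r p)⁻¹ = (r p * δ x * (r (act120 x p))⁻¹)⁻¹ := by group
    rw [h3]
    exact D.chi_inv (D.step p hp x hx)
  · have e : em x p = 128 * x + p := by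
      unfold em
      have : (or (Nat.beq x 7) (or (Nat.beq x 9) (Nat.beq x 11))) = false := by
        rw [Bool.eq_false_iff]
        intro hh
        rw [Bool.or_eq_true, Bool.or_eq_true, Nat.beq_eq, Nat.beq_eq, Nat.beq_eq] at hh
        exact h hh
      rw [this]; rfl
    rw [isC_iff] at hx
    rw [e]
    refine ⟨sgn_edge _ _ (by omega) hp, by omega⟩

/-- the sign of a path -/
theorem path (w : List ℕ) : ∀ p < 120, (∀ x ∈ w, isC x = true) →
    r p * ev δ w * (r (tr act120 w p))⁻¹ ∈ B ∧
      chi B₁ (r p * ev δ w * (r (tr act120 w p))⁻¹) = V (sgn δ r B₁) 1600 (wm w p) := by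
  induction w with
  | nil =>
    intro p _ _
    rw [ev_nil, mul_one, tr_nil, mul_inv_cancel, wm_nil, V_zero]
    exact ⟨B.one_mem, chi_false.mpr B₁.one_mem⟩
  | cons x w ih =>
    intro p hp hw
    have hx := hw x List.mem_cons_self
    obtain ⟨h1, h2⟩ := ih (act120 x p) (isTab120.lt x hx p hp) fun y hy => hw y (List.mem_cons_of_mem _ hy)
    have h3 := D.step p hp x hx
    obtain ⟨h4, h5⟩ := D.sgn_em hx hp
    have e : r p * ev δ (x :: w) * (r (tr act120 (x :: w) p))⁻¹ =
        r p * δ x * (r (act120 x p))⁻¹ * (r (act120 x p) * ev δ w * (r (tr act120 w (act120 x p)))⁻¹) := by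
      rw [ev_cons, tr_cons]; group
    rw [e, wm_cons, V_xor, V_bit _ (by omega : em x p < 1600), h4, ← h2]
    exact ⟨B.mul_mem h3 h1, D.chi_mul h3 h1⟩

theorem sgn_rel (i : ℕ) : sgn δ r B₁ (1500 + i) = chi B₁ (ev δ (Sign.rel i)) := by
  unfold sgn
  rw [if_neg (by omega)]
  have : 1500 + i - 1500 = i := by omega
  rw [this]

theorem chi_z : chi B₁ z = true := chi_true.mpr D.z1

/-- the entries of a certificate have sum zero -/
theorem entry {kn : ℕ → Bool} (hkn : ∀ j < 29, kn j = true → ev δ (Sign.rel j) = 1) {n : ℕ} (hn : ok kn n = true) :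
    V (sgn δ r B₁) 1600 (msk n) = false := by
  unfold msk
  unfold ok at hn
  cases h31 : Nat.beq (Nat.div n 128) 31 with
  | true =>
    rw [h31] at hn
    have hn : and (Nat.blt (Nat.mod n 128) 29) (kn (Nat.mod n 128)) = true := hn
    rw [Bool.and_eq_true] at hn
    have hlt : Nat.mod n 128 < 29 := Nat.blt_eq.mp hn.1
    show V (sgn δ r B₁) 1600 (2 ^ (1500 + Nat.mod n 128)) = false
    rw [V_bit _ (by omega), D.sgn_rel, hkn _ hlt hn.2]
    exact chi_false.mpr B₁.one_mem
  | false =>
    rw [h31] at hn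
    cases h30 : Nat.beq (Nat.div n 128) 30 with
    | true =>
      rw [h30] at hn
      have hn : and (isB (Nat.mod n 128)) (and (Nat.beq (act120 (Nat.mod n 128) 0) 0)
        (Bool.not (or (Nat.beq (Nat.mod n 128) 7) (Nat.beq (Nat.mod n 128) 9)))) = true := hn
      rw [Bool.and_eq_true, Bool.and_eq_true] at hn
      have hB := hn.1
      have h0 := Nat.eq_of_beq_eq_true hn.2.1
      have hB2 := (isB_iff _).mp hB
      show V (sgn δ r B₁) 1600 (2 ^ (128 * Nat.mod n 128)) = false
      rw [V_bit _ (by omega), show 128 * Nat.mod n 128 = 128 * Nat.mod n 128 + 0 from rfl,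
        sgn_edge _ _ (by omega) (by omega), h0, D.r0, one_mul, inv_one, mul_one]
      exact chi_false.mpr (D.gen _ hB)
    | false =>
      rw [h30] at hn
      have hn : and (Nat.blt (Nat.div n 128) 29) (and (Nat.blt (Nat.mod n 128) 120)
        (and (allL isC (Sign.rel (Nat.div n 128)))
          (Nat.beq (tr act120 (Sign.rel (Nat.div n 128)) (Nat.mod n 128)) (Nat.mod n 128)))) = true := hn
      rw [Bool.and_eq_true, Bool.and_eq_true, Bool.and_eq_true] at hn
      obtain ⟨a1, a2, a3, a4⟩ := hn
      have a1 := Nat.blt_eq.mp a1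
      have a2 := Nat.blt_eq.mp a2
      have a3 := (allL_iff _ _).mp a3
      have a4 := Nat.eq_of_beq_eq_true a4
      show V (sgn δ r B₁) 1600 (wm (Sign.rel (Nat.div n 128)) (Nat.mod n 128) ^^^ 2 ^ (1500 + Nat.div n 128)) = false
      rw [V_xor, V_bit _ (by omega), D.sgn_rel, ← (D.path _ _ a2 a3).2, a4]
      rcases D.rel _ a1 with h | h
      · rw [h, mul_one, mul_inv_cancel]
        exact Bool.xor_self _
      · have e : r (Nat.mod n 128) * z * (r (Nat.mod n 128))⁻¹ = z := by
          rw [← D.cen]; group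
        rw [h, e]
        exact Bool.xor_self _

theorem of_cert {kn : ℕ → Bool} (hkn : ∀ j < 29, kn j = true → ev δ (Sign.rel j) = 1) {l : List ℕ} {i : ℕ}
    (hi : i < 29) (hc : cert kn l i = true) : ev δ (Sign.rel i) = 1 := by
  unfold cert at hc
  rw [Bool.and_eq_true] at hc
  have h1 := V_total (sgn δ r B₁) l fun n hn => D.entry hkn ((allG_iff _ _).mp hc.1 n hn)
  rw [Nat.eq_of_beq_eq_true hc.2] at h1
  have h2 : V (sgn δ r B₁) 1600 (2 ^ (1500 + i)) = false := h1
  rw [V_bit _ (by omega), D.sgn_rel, chi_false] at h2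
  rcases D.rel i hi with h | h
  · exact h
  · rw [h] at h2
    exact (D.z1 h2).elim

/-- **all relators take the value 1** -/
theorem all_one (h : ∀ j < 29, un0 j = true → ev δ (Sign.rel j) = 1) : ∀ i < 29, ev δ (Sign.rel i) = 1 := by
  have h23 := D.of_cert h (by norm_num) checkDedu
  have h28 := D.of_cert h (by norm_num) checkDus
  have h19 := D.of_cert h (by norm_num) checkU2
  have h' : ∀ j < 29, un1 j = true → ev δ (Sign.rel j) = 1 := by
    intro j hj hj1
    by_cases e : j = 19
    · rw [e]; exact h19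
    · apply h j hj
      revert hj1 e
      revert j
      decide
  have h27 := D.of_cert h' (by norm_num) checkUs4
  intro i hi
  by_cases h0 : un0 i = true
  · exact h i hi h0
  · have : i = 19 ∨ i = 23 ∨ i = 27 ∨ i = 28 := by
      revert h0
      revert i
      decide
    rcases this with rfl | rfl | rfl | rfl
    · exact h19
    · exact h23
    · exact h27
    · exact h28

end Data

end Cfsg.Agent.KFacts.Th.Sign
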