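import Cfsg.Agent.KFacts.Th.Fuse
import Cfsg.Agent.KFacts.Th.Sign
import Cfsg.Agent.KFacts.MulDef

/-!
# No double cover of the Thompson group (helper950)

In a central extension `π : L → G` by `{1, z}` the letters `a, c, d, e, s, t, u` have lifts satisfying the relations of
`C = 2^{1+8}.A9` (`exists_lift`); so `C` has a complement in its preimage, and `L` is not perfect (`false`).
-/

set_option autoImplicit false
set_option maxRecDepth 100000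

namespace Cfsg.Agent.KFacts.Th.Lift

open Cfsg.Agent.Th.Base Cfsg.Agent.Th.Word Cfsg.Agent.Th.RelWords Cfsg.Agent.Th.PermTab
  Cfsg.Agent.Th.KOracle Cfsg.Agent.Th.KPerm Cfsg.Agent.Th.NineAct Cfsg.Agent.Th.CStruct
  Cfsg.Agent.Th.COracleDef Cfsg.Agent.Th.TabFacts
open Cfsg.Agent.KFacts.Th.Mask Cfsg.Agent.KFacts.Th.Struct
open scoped commutatorElement

universe u v

variable {G : Type u} [Group G] {L : Type v} [Group L]

/-- a central extension by a group of order 2 -/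
structure Cov (π : L →* G) (z : L) : Prop where
  surj : Function.Surjective π
  ker : ∀ x, π x = 1 ↔ x = 1 ∨ x = z
  ne : z ≠ 1
  sq : z * z = 1
  cen : ∀ x, z * x = x * z

namespace Cov

variable {π : L →* G} {z : L} (c : Cov π z)
include c

theorem zinv : z⁻¹ = z := inv_eq_of_mul_eq_one_left c.sq

theorem of_eq {x y : L} (h : π x = π y) : x = y ∨ x = z * y := by
  have h1 : π (x * y⁻¹) = 1 := by rw [map_mul, map_inv, h, mul_inv_cancel]
  rcases (c.ker _).mp h1 with h2 | h2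
  · left; exact mul_inv_eq_one.mp h2
  · right; exact mul_inv_eq_iff_eq_mul.mp h2

theorem sq_mul (x : L) : (z * x) * (z * x) = x * x := by
  calc (z * x) * (z * x) = z * (x * z) * x := by group
    _ = z * z * (x * x) := by rw [← c.cen x]; group
    _ = x * x := by rw [c.sq, one_mul]

theorem pow_mul (x : L) (n : ℕ) : (z * x) ^ n = z ^ n * x ^ n := by
  have : Commute z x := c.cen x
  exact this.mul_pow n

theorem z_pow_odd {n : ℕ} (hn : n % 2 = 1) : z ^ n = z := by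
  obtain ⟨k, rfl⟩ : ∃ k, n = 2 * k + 1 := ⟨n / 2, by omega⟩
  rw [pow_succ, _root_.pow_mul, pow_two, c.sq, one_pow, one_mul]

/-- lifts of elements of odd order -/
theorem exists_pow {x : G} {n : ℕ} (hn : n % 2 = 1) (hx : x ^ n = 1) : ∃ y, π y = x ∧ y ^ n = 1 := by
  obtain ⟨y, hy⟩ := c.surj x
  rcases (c.ker (y ^ n)).mp (by rw [map_pow, hy, hx]) with h | h
  · exact ⟨y, hy, h⟩
  · refine ⟨z * y, ?_, ?_⟩
    · rw [map_mul, (c.ker z).mpr (Or.inr rfl), one_mul, hy]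
    · rw [c.pow_mul, c.z_pow_odd hn, h, c.sq]

theorem pow_unique {x y : L} {n : ℕ} (hn : n % 2 = 1) (hx : x ^ n = 1) (hy : y ^ n = 1) (h : π x = π y) : x = y := by
  rcases c.of_eq h with h1 | h1
  · exact h1
  · exfalso
    rw [h1, c.pow_mul, c.z_pow_odd hn, hy, mul_one] at hx
    exact c.ne hx

end Cov

/-- lifts of elements commuting with `x` commute with the lifts of `x` -/
def Good (π : L →* G) (x : G) : Prop := ∀ y g : L, π y = x → π g * x = x * π g → g * y = y * g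

/-- lifts of `x` have square 1 -/
def Sq (π : L →* G) (x : G) : Prop := ∀ y : L, π y = x → y * y = 1

section

variable {π : L →* G} {z : L} (c : Cov π z)
include c

omit c in
theorem Good.conj (hπ : Function.Surjective π) {x : G} (h : Good π x) (y : G) : Good π (y * x * y⁻¹) := by
  obtain ⟨w, rfl⟩ := hπ y
  intro v g hv hg
  have h1 := h (w⁻¹ * v * w) (w⁻¹ * g * w) (by
    rw [map_mul, map_mul, map_inv, hv]; group) (by
    rw [map_mul, map_mul, map_inv]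
    calc (π w)⁻¹ * π g * π w * x = (π w)⁻¹ * (π g * (π w * x * (π w)⁻¹)) * π w := by group
      _ = (π w)⁻¹ * (π w * x * (π w)⁻¹ * π g) * π w := by rw [hg]
      _ = x * ((π w)⁻¹ * π g * π w) := by group)
  calc g * v = w * (w⁻¹ * g * w * (w⁻¹ * v * w)) * w⁻¹ := by group
    _ = w * (w⁻¹ * v * w * (w⁻¹ * g * w)) * w⁻¹ := by rw [h1]
    _ = v * g := by group

omit c in
theorem Sq.conj (hπ : Function.Surjective π) {x : G} (h : Sq π x) (y : G) : Sq π (y * x * y⁻¹) := by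
  obtain ⟨w, rfl⟩ := hπ y
  intro v hv
  have h1 := h (w⁻¹ * v * w) (by rw [map_mul, map_mul, map_inv, hv]; group)
  calc v * v = w * (w⁻¹ * v * w * (w⁻¹ * v * w)) * w⁻¹ := by group
    _ = 1 := by rw [h1]; group

/-- **the centraliser of `x` is perfect** -/
theorem good_of_perfect {x : G} {C : Subgroup G} (hC : ⁅C, C⁆ = C) (hx : ∀ g, g ∈ C ↔ g * x = x * g) : Good π x := by
  intro y g hy hg
  have hcomm : ∀ w : L, π w ∈ C → ∃ e : L, (∀ v, e * v = v * e) ∧ e * e = 1 ∧ w * y * w⁻¹ = e * y := by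
    intro w hw
    have h1 : π (w * y * w⁻¹) = π y := by
      rw [map_mul, map_mul, map_inv, hy, (hx _).mp hw]; group
    rcases c.of_eq h1 with h2 | h2
    · exact ⟨1, by simp, by simp, by rw [one_mul]; exact h2⟩
    · exact ⟨z, c.cen, c.sq, h2⟩
  have hle : ⁅C, C⁆ ≤ (Subgroup.centralizer ({y} : Set L)).map π := by
    rw [Subgroup.commutator_le]
    intro g1 h1 g2 h2
    obtain ⟨w1, rfl⟩ := c.surj g1
    obtain ⟨w2, rfl⟩ := c.surj g2
    obtain ⟨e1, c1, s1, k1⟩ := hcomm w1 h1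
    obtain ⟨e2, c2, s2, k2⟩ := hcomm w2 h2
    refine ⟨⁅w1, w2⁆, ?_, map_commutatorElement _ _ _⟩
    have j1 : w1⁻¹ * y * w1 = e1 * y := by
      have : y = w1⁻¹ * (w1 * y * w1⁻¹) * w1 := by group
      rw [k1] at this
      calc w1⁻¹ * y * w1 = e1 * e1 * (w1⁻¹ * y * w1) := by rw [s1, one_mul]
        _ = e1 * (e1 * w1⁻¹) * y * w1 := by group
        _ = e1 * (w1⁻¹ * (e1 * y) * w1) := by rw [c1 w1⁻¹]; group
        _ = e1 * y := by rw [← this]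
    have j2 : w2⁻¹ * y * w2 = e2 * y := by
      have : y = w2⁻¹ * (w2 * y * w2⁻¹) * w2 := by group
      rw [k2] at this
      calc w2⁻¹ * y * w2 = e2 * e2 * (w2⁻¹ * y * w2) := by rw [s2, one_mul]
        _ = e2 * (e2 * w2⁻¹) * y * w2 := by group
        _ = e2 * (w2⁻¹ * (e2 * y) * w2) := by rw [c2 w2⁻¹]; group
        _ = e2 * y := by rw [← this]
    rw [SetLike.mem_coe, Subgroup.mem_centralizer_singleton_iff]
    have key : ⁅w1, w2⁆ * y * ⁅w1, w2⁆⁻¹ = y := by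
      rw [commutatorElement_def]
      calc w1 * w2 * w1⁻¹ * w2⁻¹ * y * (w1 * w2 * w1⁻¹ * w2⁻¹)⁻¹
          = w1 * (w2 * (w1⁻¹ * (w2⁻¹ * y * w2) * w1) * w2⁻¹) * w1⁻¹ := by group
        _ = w1 * (w2 * (w1⁻¹ * e2 * y * w1) * w2⁻¹) * w1⁻¹ := by rw [j2]; group
        _ = w1 * (w2 * (e2 * (w1⁻¹ * y * w1)) * w2⁻¹) * w1⁻¹ := by rw [← c2 w1⁻¹]; group
        _ = w1 * (w2 * e2 * e1 * y * w2⁻¹) * w1⁻¹ := by rw [j1]; group
        _ = w1 * (e2 * (w2 * e1) * y * w2⁻¹) * w1⁻¹ := by rw [← c2 w2]; group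
        _ = w1 * (e2 * e1 * (w2 * y * w2⁻¹)) * w1⁻¹ := by rw [← c1 w2]; group
        _ = w1 * (e2 * (e1 * e2) * y) * w1⁻¹ := by rw [k2]; group
        _ = w1 * (e2 * e2 * e1 * y) * w1⁻¹ := by rw [c1 e2]; group
        _ = (w1 * e1) * y * w1⁻¹ := by rw [s2]; group
        _ = e1 * (w1 * y * w1⁻¹) := by rw [← c1 w1]; group
        _ = e1 * e1 * y := by rw [k1]; group
        _ = y := by rw [s1, one_mul]
    rwa [mul_inv_eq_iff_eq_mul] at key
  have h1 : π g ∈ ⁅C, C⁆ := by rw [hC]; exact (hx _).mpr hg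
  obtain ⟨w, hw, hwg⟩ := hle h1
  have hw : w * y = y * w := Subgroup.mem_centralizer_singleton_iff.mp hw
  rcases c.of_eq hwg.symm with h2 | h2
  · rw [h2]; exact hw
  · rw [h2]
    calc z * w * y = z * (w * y) := by group
      _ = z * (y * w) := by rw [hw]
      _ = (z * y) * w := by group
      _ = y * (z * w) := by rw [c.cen y]; group

end

section

variable {γ : ℕ → G} (h : Ctx γ) {π : L →* G} {z : L} (c : Cov π z)
include h c

theorem good_a : Good π (γ 1) := good_of_perfect c h.perfect fun _ => h.mem_C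

theorem sq_a : Sq π (γ 1) := by
  intro x hx
  obtain ⟨C0, hC0⟩ := c.surj (cc γ 0)
  obtain ⟨D0, hD0⟩ := c.surj (γ 4)
  have h5 := h.cc_conj' (x := 4) (by simp) 0 1 (by decide +kernel)
  set C1 : L := D0⁻¹ * C0 * D0 with hC1
  have hC1' : π C1 = cc γ 1 := by rw [hC1, map_mul, map_mul, map_inv, hC0, hD0, h5]
  set A : L := C0⁻¹ * C1 * C0 * C1⁻¹ with hA
  have e0 : (cc γ 0)⁻¹ = cc γ 0 := inv_eq_of_mul_eq_one_left (h.data.cc 0)
  have e1 : (cc γ 1)⁻¹ = cc γ 1 := inv_eq_of_mul_eq_one_left (h.data.cc 1)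
  have hA' : π A = γ 1 := by
    rw [hA, map_mul, map_mul, map_mul, map_inv, map_inv, hC0, hC1', e0, e1, h.data.com 0 1 (by decide)]
    calc γ 1 * (cc γ 1 * cc γ 0) * cc γ 0 * cc γ 1 = γ 1 * cc γ 1 * (cc γ 0 * cc γ 0) * cc γ 1 := by group
      _ = γ 1 * (cc γ 1 * cc γ 1) := by rw [h.data.cc 0]; group
      _ = γ 1 := by rw [h.data.cc 1, mul_one]
  have hcom : C1 * A = A * C1 := good_a h c A C1 hA' (by rw [hC1', h.data.ac 1])
  have hAA : A * A = 1 := by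
    have hs : (C1 * C1 = 1 ∨ C1 * C1 = z) := (c.ker _).mp (by rw [map_mul, hC1', h.data.cc 1])
    have hcen : ∀ v, C1 * C1 * v = v * (C1 * C1) := by
      intro v
      rcases hs with hs | hs
      · rw [hs]; simp
      · rw [hs]; exact c.cen v
    have k1 : A * C1 = C0⁻¹ * C1 * C0 := by rw [hA]; group
    have k2 : A * C1 * (A * C1) = C1 * C1 := by
      calc A * C1 * (A * C1) = C0⁻¹ * (C1 * C1 * C0) := by rw [k1]; group
        _ = C1 * C1 := by rw [hcen C0]; group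
    have k3 : A * A * (C1 * C1) = C1 * C1 := by
      calc A * A * (C1 * C1) = A * (A * C1) * C1 := by group
        _ = A * (C1 * A) * C1 := by rw [hcom]
        _ = A * C1 * (A * C1) := by group
        _ = C1 * C1 := k2
    exact mul_eq_right.mp k3
  rcases c.of_eq (hx.trans hA'.symm) with h1 | h1
  · rw [h1]; exact hAA
  · rw [h1, c.sq_mul]; exact hAA

theorem good_sq : (Good π (γ 3) ∧ Sq π (γ 3)) ∧ (Good π (γ 4) ∧ Sq π (γ 4)) ∧ (Good π (γ 5) ∧ Sq π (γ 5)) := by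
  have ga := good_a h c
  have sa := sq_a h c
  have h4 : Good π (γ 4) ∧ Sq π (γ 4) := by
    have e := Fuse.k_a h
    exact ⟨by rw [← e]; exact ga.conj c.surj _, by rw [← e]; exact sa.conj c.surj _⟩
  refine ⟨?_, h4, ?_⟩
  · have e := Fuse.n_a h
    exact ⟨by rw [← e]; exact ga.conj c.surj _, by rw [← e]; exact sa.conj c.surj _⟩
  · have d2 : γ 4 * γ 4 = 1 := by rw [← pow_two]; exact h.K.d2
    have e2 : γ 5 * γ 5 = 1 := by rw [← pow_two]; exact h.K.e2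
    have d3 := h.K.de3
    have di : (γ 4)⁻¹ = γ 4 := inv_eq_of_mul_eq_one_left d2
    have ei : (γ 5)⁻¹ = γ 5 := inv_eq_of_mul_eq_one_left e2
    have e : (γ 5 * γ 4)⁻¹ * γ 4 * (γ 5 * γ 4)⁻¹⁻¹ = γ 5 := by
      have h1 : (γ 5 * γ 4)⁻¹ * γ 4 * (γ 5 * γ 4)⁻¹⁻¹ * γ 5 = 1 := by
        rw [inv_inv, mul_inv_rev, di, ei, ← d3]
        simp only [pow_succ, pow_zero, one_mul, mul_assoc]
      rw [eq_inv_of_mul_eq_one_left h1, ei]
    exact ⟨by rw [← e]; exact h4.1.conj c.surj _, by rw [← e]; exact h4.2.conj c.surj _⟩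

end

/-! ### twisting lifts by signs -/

/-- `δ` is a system of lifts of the letters of `C` -/
structure Lifts (π : L →* G) (γ : ℕ → G) (δ : ℕ → L) : Prop where
  inv : InvCompat δ
  map : ∀ x, isC x = true → π (δ x) = γ x

/-- twist by a set of letters -/
def tw (z : L) (τ : ℕ → Bool) (δ : ℕ → L) (x : ℕ) : L := if τ x = true then z * δ x else δ x

/-- parity of a word -/
def cnt (τ : ℕ → Bool) (w : List ℕ) : Bool := List.rec false (fun x _ ih => xor (τ x) ih) w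

theorem cnt_cons (τ : ℕ → Bool) (x : ℕ) (w : List ℕ) : cnt τ (x :: w) = xor (τ x) (cnt τ w) := rfl

theorem Lifts.ev {π : L →* G} {γ : ℕ → G} {δ : ℕ → L} (D : Lifts π γ δ) {w : List ℕ} (hw : ∀ x ∈ w, isC x = true) :
    π (ev δ w) = ev γ w := by
  induction w with
  | nil => simp
  | cons x w ih =>
    rw [ev_cons, ev_cons, map_mul, D.map x (hw x List.mem_cons_self), ih fun y hy => hw y (List.mem_cons_of_mem _ hy)]

section

variable {γ : ℕ → G} {π : L →* G} {z : L} (c : Cov π z)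
include c

theorem ev_tw (τ : ℕ → Bool) (δ : ℕ → L) (w : List ℕ) :
    ev (tw z τ δ) w = if cnt τ w = true then z * ev δ w else ev δ w := by
  induction w with
  | nil => rfl
  | cons x w ih =>
    rw [ev_cons, ih, ev_cons, cnt_cons]
    unfold tw
    cases τ x <;> cases cnt τ w
    · simp
    · simp only [Bool.false_eq_true, if_false, if_true, Bool.false_xor]
      rw [← mul_assoc, ← c.cen (δ x), mul_assoc]
    · simp only [Bool.false_eq_true, if_false, if_true, Bool.xor_false]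
      rw [mul_assoc]
    · simp only [if_true, Bool.xor_self, Bool.false_eq_true, if_false]
      calc z * δ x * (z * ev δ w) = z * (δ x * z) * ev δ w := by group
        _ = z * z * δ x * ev δ w := by rw [← c.cen (δ x)]; group
        _ = δ x * ev δ w := by rw [c.sq, one_mul]

theorem Lifts.tw {δ : ℕ → L} (D : Lifts π γ δ) {τ : ℕ → Bool} (hτ : ∀ x, τ (invL x) = τ x) :
    Lifts π γ (tw z τ δ) := by
  refine ⟨fun x => ?_, fun x hx => ?_⟩
  · unfold Lift.tw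
    rw [hτ x, D.inv x]
    split_ifs
    · rw [mul_inv_rev, c.zinv, c.cen]
    · rfl
  · unfold Lift.tw
    split_ifs
    · rw [map_mul, (c.ker z).mpr (Or.inr rfl), one_mul]
      exact D.map x hx
    · exact D.map x hx

/-- adjusting the value of a word -/
theorem Lifts.adjust {δ : ℕ → L} (D : Lifts π γ δ) {τ : ℕ → Bool} (hτ : ∀ x, τ (invL x) = τ x) {w : List ℕ}
    (hw : ∀ x ∈ w, isC x = true) (hw1 : Cfsg.Agent.Th.Word.ev γ w = 1) (hodd : cnt τ w = true) :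
    ∃ δ' : ℕ → L, Lifts π γ δ' ∧ Cfsg.Agent.Th.Word.ev δ' w = 1 ∧
      ∀ v : List ℕ, cnt τ v = false → Cfsg.Agent.Th.Word.ev δ v = 1 → Cfsg.Agent.Th.Word.ev δ' v = 1 := by
  rcases (c.ker _).mp (by rw [D.ev hw, hw1]) with h1 | h1
  · exact ⟨δ, D, h1, fun v _ h => h⟩
  · refine ⟨_, D.tw c hτ, ?_, fun v hv h => ?_⟩
    · rw [ev_tw c, hodd, if_pos rfl, h1, c.sq]
    · rw [ev_tw c, hv, h]; rfl

end

/-- the relation `(cdes)^9 = 1` -/
def w9 : List ℕ := [3,4,5,6,3,4,5,6,3,4,5,6,3,4,5,6,3,4,5,6,3,4,5,6,3,4,5,6,3,4,5,6,3,4,5,6]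

theorem w9_check : korc w9 = true := by decide +kernel

def τ1 (x : ℕ) : Bool := Nat.beq x 1
def τ3 (x : ℕ) : Bool := Nat.beq x 3
def τ4 (x : ℕ) : Bool := Nat.beq x 4
def τ5 (x : ℕ) : Bool := Nat.beq x 5
def τu (x : ℕ) : Bool := or (Nat.beq x 10) (Nat.beq x 11)

theorem τ_inv : (∀ x, τ1 (invL x) = τ1 x) ∧ (∀ x, τ3 (invL x) = τ3 x) ∧ (∀ x, τ4 (invL x) = τ4 x) ∧
    (∀ x, τ5 (invL x) = τ5 x) ∧ (∀ x, τu (invL x) = τu x) := by
  have key : ∀ (f : ℕ → Bool), (∀ x < 12, f (invL x) = f x) → ∀ x, f (invL x) = f x := by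
    intro f hf x
    by_cases hx : x < 12
    · exact hf x hx
    · have : invL x = x := by
        unfold invL
        simp only [cond_eq_ite, Nat.beq_eq]
        split_ifs <;> omega
      rw [this]
  exact ⟨key _ (by decide), key _ (by decide), key _ (by decide), key _ (by decide), key _ (by decide)⟩

section

variable {γ : ℕ → G} (h : Ctx γ) {π : L →* G} {z : L} (c : Cov π z)
include h c

/-- lifts with the relations `s7, t3, es, de3, (cdes)^9, acd, us3` -/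
theorem exists_lifts : ∃ δ : ℕ → L, Lifts π γ δ ∧ ev δ (Sign.rel 8) = 1 ∧ ev δ (Sign.rel 13) = 1 ∧
    ev δ (Sign.rel 12) = 1 ∧ ev δ (Sign.rel 7) = 1 ∧ ev δ w9 = 1 ∧ ev δ (Sign.rel 5) = 1 ∧
    ev δ (Sign.rel 26) = 1 := by
  obtain ⟨⟨-, s3⟩, ⟨-, s4⟩, ⟨-, s5⟩⟩ := good_sq h c
  have s1 := sq_a h c
  obtain ⟨a, ha⟩ := c.surj (γ 1)
  obtain ⟨c', hc'⟩ := c.surj (γ 3)
  obtain ⟨d, hd⟩ := c.surj (γ 4)
  obtain ⟨e, he⟩ := c.surj (γ 5)
  obtain ⟨u, hu⟩ := c.surj (γ 10)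
  obtain ⟨s, hs, hs7⟩ := c.exists_pow (x := γ 6) (n := 7) (by norm_num) h.K.s7
  obtain ⟨t, ht, ht3⟩ := c.exists_pow (x := γ 8) (n := 3) (by norm_num) h.K.t3
  have i7 : γ 7 = (γ 6)⁻¹ := h.inv 6
  have i9 : γ 9 = (γ 8)⁻¹ := h.inv 8
  have i11 : γ 11 = (γ 10)⁻¹ := h.inv 10
  let δ : ℕ → L := gam a 1 c' d e s t u
  have D : Lifts π γ δ := by
    refine ⟨invCompat_gam (by rw [pow_two]; exact s1 a ha) (by simp) (by rw [pow_two]; exact s3 c' hc')
      (by rw [pow_two]; exact s4 d hd) (by rw [pow_two]; exact s5 e he), fun x hx => ?_⟩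
    have hm := isC_mem hx
    simp only [List.mem_cons, List.not_mem_nil, or_false] at hm
    rcases hm with rfl | rfl | rfl | rfl | rfl | rfl | rfl | rfl | rfl | rfl
    · exact ha
    · exact hc'
    · exact hd
    · exact he
    · exact hs
    · show π s⁻¹ = _; rw [map_inv, hs, i7]
    · exact ht
    · show π t⁻¹ = _; rw [map_inv, ht, i9]
    · exact hu
    · show π u⁻¹ = _; rw [map_inv, hu, i11]
  have hr := words_of_relC h.inv h.C
  have hrel : ∀ i < 29, Sign.rel i ∈ relC := by decide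
  have hC : ∀ i < 29, ∀ x ∈ Sign.rel i, isC x = true := by decide
  have h8 : ev δ (Sign.rel 8) = 1 := by
    show s * (s * (s * (s * (s * (s * (s * 1)))))) = 1
    calc s * (s * (s * (s * (s * (s * (s * 1)))))) = s ^ 7 := by
          simp only [pow_succ, pow_zero, one_mul, mul_assoc, mul_one]
      _ = 1 := hs7
  have h13 : ev δ (Sign.rel 13) = 1 := by
    show t * (t * (t * 1)) = 1
    calc t * (t * (t * 1)) = t ^ 3 := by simp only [pow_succ, pow_zero, one_mul, mul_assoc, mul_one]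
      _ = 1 := ht3
  obtain ⟨τi1, τi3, τi4, τi5, τiu⟩ := τ_inv
  -- es
  obtain ⟨δ1, D1, e1, p1⟩ := D.adjust c τi5 (hC 12 (by norm_num)) (hr _ (hrel 12 (by norm_num))) (by decide)
  -- de3
  obtain ⟨δ2, D2, e2, p2⟩ := D1.adjust c τi4 (hC 7 (by norm_num)) (hr _ (hrel 7 (by norm_num))) (by decide)
  -- (cdes)^9
  obtain ⟨δ3, D3, e3, p3⟩ := D2.adjust c τi3 (w := w9) (by decide) (Fuse.korc1 h w9_check) (by decide)
  -- acd
  obtain ⟨δ4, D4, e4, p4⟩ := D3.adjust c τi1 (hC 5 (by norm_num)) (hr _ (hrel 5 (by norm_num))) (by decide)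
  -- us3
  obtain ⟨δ5, D5, e5, p5⟩ := D4.adjust c τiu (hC 26 (by norm_num)) (hr _ (hrel 26 (by norm_num))) (by decide)
  refine ⟨δ5, D5, ?_, ?_, ?_, ?_, ?_, ?_, e5⟩
  · exact p5 _ (by decide) (p4 _ (by decide) (p3 _ (by decide) (p2 _ (by decide) (p1 _ (by decide) h8))))
  · exact p5 _ (by decide) (p4 _ (by decide) (p3 _ (by decide) (p2 _ (by decide) (p1 _ (by decide) h13))))
  · exact p5 _ (by decide) (p4 _ (by decide) (p3 _ (by decide) (p2 _ (by decide) e1)))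
  · exact p5 _ (by decide) (p4 _ (by decide) (p3 _ (by decide) e2))
  · exact p5 _ (by decide) (p4 _ (by decide) e3)
  · exact p5 _ (by decide) e4

omit h c in
theorem comm4 {x y : L} (hxy : x * y = y * x) (hy : y * y = 1) : x⁻¹ * (y * (x * (y * 1))) = 1 := by
  rw [mul_one, hxy, ← mul_assoc y y, hy, one_mul, inv_mul_cancel]

omit h c in
theorem comm4' {x y : L} (hxy : x * y = y * x) (hx : x * x = 1) (hy : y * y = 1) :
    x * (y * (x * (y * 1))) = 1 := by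
  rw [mul_one, hxy, ← mul_assoc y y, hy, one_mul, hx]

/-- **all relators but four** -/
theorem most {δ : ℕ → L} (D : Lifts π γ δ) (h8 : ev δ (Sign.rel 8) = 1) (h13 : ev δ (Sign.rel 13) = 1)
    (h12 : ev δ (Sign.rel 12) = 1) (h7 : ev δ (Sign.rel 7) = 1) (h5 : ev δ (Sign.rel 5) = 1)
    (h26 : ev δ (Sign.rel 26) = 1) : ∀ j < 29, Sign.un0 j = true → ev δ (Sign.rel j) = 1 := by
  obtain ⟨⟨g3, s3⟩, ⟨g4, s4⟩, ⟨g5, s5⟩⟩ := good_sq h c
  have s1 := sq_a h c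
  have g1 := good_a h c
  have m1 := D.map 1 rfl
  have m3 := D.map 3 rfl
  have m4 := D.map 4 rfl
  have m5 := D.map 5 rfl
  have m6 := D.map 6 rfl
  have m8 := D.map 8 rfl
  have m10 := D.map 10 rfl
  have i7 : δ 7 = (δ 6)⁻¹ := D.inv 6
  have i9 : δ 9 = (δ 8)⁻¹ := D.inv 8
  have i11 : δ 11 = (δ 10)⁻¹ := D.inv 10
  have q1 := s1 _ m1
  have q3 := s3 _ m3
  have q4 := s4 _ m4
  have q5 := s5 _ m5
  have hr := words_of_relC h.inv h.C
  have hrel : ∀ i < 29, Sign.rel i ∈ relC := by decide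
  -- commuting elements downstairs
  have com : ∀ i < 29, ∀ x y : ℕ, Sign.rel i = [invL x, y, x, y] → γ y * γ y = 1 → γ x * γ y = γ y * γ x := by
    intro i hi x y he hy
    have h1 := hr _ (hrel i hi)
    rw [he] at h1
    simp only [ev_cons, ev_nil, mul_one] at h1
    rw [h.inv x] at h1
    have hyi : (γ y)⁻¹ = γ y := inv_eq_of_mul_eq_one_left hy
    calc γ x * γ y = γ x * γ y * ((γ x)⁻¹ * (γ y * (γ x * γ y)))⁻¹ := by rw [h1]; group
      _ = γ x * (γ y * (γ y)⁻¹ * (γ x)⁻¹) * (γ y)⁻¹ * γ x := by group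
      _ = γ y * γ x := by rw [mul_inv_cancel, hyi]; group
  have w1 : γ 1 * γ 1 = 1 := h.aa
  have w3 : γ 3 * γ 3 = 1 := by rw [← pow_two]; exact h.K.c2
  have w4 : γ 4 * γ 4 = 1 := by rw [← pow_two]; exact h.K.d2
  have w5 : γ 5 * γ 5 = 1 := by rw [← pow_two]; exact h.K.e2
  -- 9 10 14 15 16 17 20 21 22
  have c61 := g1 _ (δ 6) m1 (by rw [m6]; exact com 9 (by norm_num) 6 1 rfl w1)
  have c63 := g3 _ (δ 6) m3 (by rw [m6]; exact com 10 (by norm_num) 6 3 rfl w3)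
  have c81 := g1 _ (δ 8) m1 (by rw [m8]; exact com 14 (by norm_num) 8 1 rfl w1)
  have c83 := g3 _ (δ 8) m3 (by rw [m8]; exact com 15 (by norm_num) 8 3 rfl w3)
  have c84 := g4 _ (δ 8) m4 (by rw [m8]; exact com 16 (by norm_num) 8 4 rfl w4)
  have c85 := g5 _ (δ 8) m5 (by rw [m8]; exact com 17 (by norm_num) 8 5 rfl w5)
  have cu1 := g1 _ (δ 10) m1 (by rw [m10]; exact com 20 (by norm_num) 10 1 rfl w1)
  have cu3 := g3 _ (δ 10) m3 (by rw [m10]; exact com 21 (by norm_num) 10 3 rfl w3)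
  have cu5 := g5 _ (δ 10) m5 (by rw [m10]; exact com 22 (by norm_num) 10 5 rfl w5)
  -- 4 6
  have c15 := g5 _ (δ 1) m5 (by rw [m1]; exact com 4 (by norm_num) 1 5 rfl w5)
  have c35 := g5 _ (δ 3) m5 (by rw [m3]; exact com 6 (by norm_num) 3 5 rfl w5)
  have h7' : δ 6 ^ 7 = 1 := by
    have h8' : δ 6 * (δ 6 * (δ 6 * (δ 6 * (δ 6 * (δ 6 * (δ 6 * 1)))))) = 1 := h8
    calc δ 6 ^ 7 = δ 6 * (δ 6 * (δ 6 * (δ 6 * (δ 6 * (δ 6 * (δ 6 * 1)))))) := by
          simp only [pow_succ, pow_zero, one_mul, mul_assoc, mul_one]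
      _ = 1 := h8'
  have h3' : δ 8 ^ 3 = 1 := by
    have h8' : δ 8 * (δ 8 * (δ 8 * 1)) = 1 := h13
    calc δ 8 ^ 3 = δ 8 * (δ 8 * (δ 8 * 1)) := by simp only [pow_succ, pow_zero, one_mul, mul_assoc, mul_one]
      _ = 1 := h8'
  have conj_pow : ∀ (x y : L) (n : ℕ), y ^ n = 1 → (x * y * x⁻¹) ^ n = 1 := by
    intro x y n hn
    rw [conj_pow, hn, mul_one, mul_inv_cancel]
  -- 11: s d s d = 1
  have r11 : ev δ (Sign.rel 11) = 1 := by
    have h1 := hr _ (hrel 11 (by norm_num))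
    have h1 : γ 6 * (γ 4 * (γ 6 * (γ 4 * 1))) = 1 := h1
    show δ 6 * (δ 4 * (δ 6 * (δ 4 * 1))) = 1
    have hd : (δ 4)⁻¹ = δ 4 := inv_eq_of_mul_eq_one_left q4
    have k1 : δ 4 * δ 6 * (δ 4)⁻¹ = (δ 6)⁻¹ := by
      apply c.pow_unique (n := 7) (by norm_num) (conj_pow _ _ _ h7') (by rw [inv_pow, h7', inv_one])
      simp only [map_mul, map_inv, m4, m6]
      have hd' : (γ 4)⁻¹ = γ 4 := inv_eq_of_mul_eq_one_left w4
      rw [hd', eq_inv_iff_mul_eq_one]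
      calc γ 4 * γ 6 * γ 4 * γ 6 = (γ 6)⁻¹ * (γ 6 * (γ 4 * (γ 6 * (γ 4 * 1)))) * γ 6 := by group
        _ = 1 := by rw [h1]; group
    calc δ 6 * (δ 4 * (δ 6 * (δ 4 * 1))) = δ 6 * (δ 4 * δ 6 * (δ 4)⁻¹) := by rw [hd]; group
      _ = 1 := by rw [k1, mul_inv_cancel]
  -- 18: t⁻¹ s t s⁻¹ s⁻¹ = 1
  have r18 : ev δ (Sign.rel 18) = 1 := by
    have h1 : γ 9 * (γ 6 * (γ 8 * (γ 7 * (γ 7 * 1)))) = 1 := hr _ (hrel 18 (by norm_num))
    show δ 9 * (δ 6 * (δ 8 * (δ 7 * (δ 7 * 1)))) = 1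
    have j7 : γ 7 = (γ 6)⁻¹ := h.inv 6
    have j9 : γ 9 = (γ 8)⁻¹ := h.inv 8
    rw [j7, j9] at h1
    rw [i7, i9]
    have k1 : (δ 8)⁻¹ * δ 6 * (δ 8)⁻¹⁻¹ = δ 6 * δ 6 := by
      apply c.pow_unique (n := 7) (by norm_num) (conj_pow _ _ _ h7')
      · rw [← pow_two, ← pow_mul, mul_comm, pow_mul, h7', one_pow]
      · simp only [map_mul, map_inv, m8, m6, inv_inv]
        calc (γ 8)⁻¹ * γ 6 * γ 8 = (γ 8)⁻¹ * (γ 6 * (γ 8 * ((γ 6)⁻¹ * ((γ 6)⁻¹ * 1)))) * (γ 6 * γ 6) := by group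
          _ = γ 6 * γ 6 := by rw [h1, one_mul]
    rw [inv_inv] at k1
    calc (δ 8)⁻¹ * (δ 6 * (δ 8 * ((δ 6)⁻¹ * ((δ 6)⁻¹ * 1)))) = (δ 8)⁻¹ * δ 6 * δ 8 * (δ 6 * δ 6)⁻¹ := by group
      _ = 1 := by rw [k1, mul_inv_cancel]
  -- 24: u⁻¹ t u t = 1
  have r24 : ev δ (Sign.rel 24) = 1 := by
    have h1 : γ 11 * (γ 8 * (γ 10 * (γ 8 * 1))) = 1 := hr _ (hrel 24 (by norm_num))
    show δ 11 * (δ 8 * (δ 10 * (δ 8 * 1))) = 1
    have j11 : γ 11 = (γ 10)⁻¹ := h.inv 10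
    rw [j11] at h1
    rw [i11]
    have k1 : (δ 10)⁻¹ * δ 8 * (δ 10)⁻¹⁻¹ = (δ 8)⁻¹ := by
      apply c.pow_unique (n := 3) (by norm_num) (conj_pow _ _ _ h3') (by rw [inv_pow, h3', inv_one])
      simp only [map_mul, map_inv, m8, m10, inv_inv]
      rw [eq_inv_iff_mul_eq_one]
      calc (γ 10)⁻¹ * γ 8 * γ 10 * γ 8 = (γ 10)⁻¹ * (γ 8 * (γ 10 * (γ 8 * 1))) := by group
        _ = 1 := h1
    rw [inv_inv] at k1
    calc (δ 10)⁻¹ * (δ 8 * (δ 10 * (δ 8 * 1))) = (δ 10)⁻¹ * δ 8 * δ 10 * δ 8 := by group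
      _ = 1 := by rw [k1, inv_mul_cancel]
  -- 25
  have r25 : ev δ (Sign.rel 25) = 1 := by
    have h1 : γ 5 * (γ 7 * (γ 7 * (γ 11 * (γ 6 * (γ 6 * (γ 5 * (γ 7 * (γ 7 * (γ 10 * (γ 6 * (γ 6 * 1))))))))))) = 1 :=
      hr _ (hrel 25 (by norm_num))
    show δ 5 * (δ 7 * (δ 7 * (δ 11 * (δ 6 * (δ 6 * (δ 5 * (δ 7 * (δ 7 * (δ 10 * (δ 6 * (δ 6 * 1))))))))))) = 1
    have j7 : γ 7 = (γ 6)⁻¹ := h.inv 6
    have j11 : γ 11 = (γ 10)⁻¹ := h.inv 10
    rw [j7, j11] at h1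
    rw [i7, i11]
    have k1 : ((δ 6)⁻¹ * (δ 6)⁻¹ * δ 10 * (δ 6 * δ 6)) * δ 5 = δ 5 * ((δ 6)⁻¹ * (δ 6)⁻¹ * δ 10 * (δ 6 * δ 6)) := by
      apply g5 _ _ m5
      simp only [map_mul, map_inv, m6, m10]
      have h5i : (γ 5)⁻¹ = γ 5 := inv_eq_of_mul_eq_one_left w5
      obtain ⟨w, hw⟩ : ∃ w, w = (γ 6)⁻¹ * (γ 6)⁻¹ * γ 10 * (γ 6 * γ 6) := ⟨_, rfl⟩
      have h2 : γ 5 * w⁻¹ * γ 5 * w = 1 := by
        calc γ 5 * w⁻¹ * γ 5 * w = γ 5 * ((γ 6)⁻¹ * ((γ 6)⁻¹ * ((γ 10)⁻¹ * (γ 6 * (γ 6 * (γ 5 * ((γ 6)⁻¹ *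
              ((γ 6)⁻¹ * (γ 10 * (γ 6 * (γ 6 * 1))))))))))) := by
              rw [hw]; simp only [mul_inv_rev, inv_inv, mul_assoc, mul_one]
          _ = 1 := h1
      rw [← hw]
      have h3 : w⁻¹ * γ 5 * w = γ 5 := by
        calc w⁻¹ * γ 5 * w = (γ 5)⁻¹ * (γ 5 * w⁻¹ * γ 5 * w) := by group
          _ = γ 5 := by rw [h2, mul_one, h5i]
      calc w * γ 5 = w * (w⁻¹ * γ 5 * w) := by rw [h3]
        _ = γ 5 * w := by group
    calc δ 5 * ((δ 6)⁻¹ * ((δ 6)⁻¹ * ((δ 10)⁻¹ * (δ 6 * (δ 6 * (δ 5 * ((δ 6)⁻¹ * ((δ 6)⁻¹ *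
          (δ 10 * (δ 6 * (δ 6 * 1)))))))))))
        = δ 5 * ((δ 6)⁻¹ * (δ 6)⁻¹ * δ 10 * (δ 6 * δ 6))⁻¹ *
          (δ 5 * ((δ 6)⁻¹ * (δ 6)⁻¹ * δ 10 * (δ 6 * δ 6))) := by
            simp only [mul_inv_rev, inv_inv, mul_assoc, mul_one]
      _ = δ 5 * ((δ 6)⁻¹ * (δ 6)⁻¹ * δ 10 * (δ 6 * δ 6))⁻¹ *
          (((δ 6)⁻¹ * (δ 6)⁻¹ * δ 10 * (δ 6 * δ 6)) * δ 5) := by rw [k1]
      _ = δ 5 * δ 5 := by group
      _ = 1 := q5
  intro j hj hu
  interval_cases j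
  · show δ 1 * (δ 1 * 1) = 1
    rw [mul_one]; exact q1
  · show δ 3 * (δ 3 * 1) = 1
    rw [mul_one]; exact q3
  · show δ 4 * (δ 4 * 1) = 1
    rw [mul_one]; exact q4
  · show δ 5 * (δ 5 * 1) = 1
    rw [mul_one]; exact q5
  · exact comm4' c15 q1 q5
  · exact h5
  · exact comm4' c35 q3 q5
  · exact h7
  · exact h8
  · show δ 7 * (δ 1 * (δ 6 * (δ 1 * 1))) = 1
    rw [i7]; exact comm4 c61 q1
  · show δ 7 * (δ 3 * (δ 6 * (δ 3 * 1))) = 1
    rw [i7]; exact comm4 c63 q3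
  · exact r11
  · exact h12
  · exact h13
  · show δ 9 * (δ 1 * (δ 8 * (δ 1 * 1))) = 1
    rw [i9]; exact comm4 c81 q1
  · show δ 9 * (δ 3 * (δ 8 * (δ 3 * 1))) = 1
    rw [i9]; exact comm4 c83 q3
  · show δ 9 * (δ 4 * (δ 8 * (δ 4 * 1))) = 1
    rw [i9]; exact comm4 c84 q4
  · show δ 9 * (δ 5 * (δ 8 * (δ 5 * 1))) = 1
    rw [i9]; exact comm4 c85 q5
  · exact r18
  · exact absurd hu (by decide)
  · show δ 11 * (δ 1 * (δ 10 * (δ 1 * 1))) = 1
    rw [i11]; exact comm4 cu1 q1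
  · show δ 11 * (δ 3 * (δ 10 * (δ 3 * 1))) = 1
    rw [i11]; exact comm4 cu3 q3
  · show δ 11 * (δ 5 * (δ 10 * (δ 5 * 1))) = 1
    rw [i11]; exact comm4 cu5 q5
  · exact absurd hu (by decide)
  · exact r24
  · exact r25
  · exact h26
  · exact absurd hu (by decide)
  · exact absurd hu (by decide)

end

end Cfsg.Agent.KFacts.Th.Lift
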