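import Cfsg.Agent.Th.NineExtra
import Cfsg.Agent.Th.NineAct

/-!
# Masks of the elements of `2^{1+8}` with respect to nine involutions (helper950)

`Q = ⟨a, c 0, …, c 8⟩` of order 512 as in `Th.NineExtra.Data`. The mask of `x ∈ Q` is the set of the `i` such that
`x` does not commute with `c i`; it is even and determines `x` up to `a`.
-/

set_option autoImplicit false

namespace Cfsg.Agent.KFacts.Th.Mask

open Cfsg.Agent.Th.NineExtra (Data comm_a comm_c)
open Cfsg.Agent.Th.Word (allB allB_iff tr isC invL)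
open Cfsg.Agent.Th.KOracle (allG allG_iff)
open Cfsg.Agent.Th.PermTab (bit bit_eq)
open Cfsg.Agent.Th.NineAct (act9 isTab9)

variable {G : Type*} [Group G]

/-- the group generated by `a` and the `c i` -/
abbrev QQ (a : G) (c : Fin 9 → G) : Subgroup G := Subgroup.closure (insert a (Set.range c))

/-- `m` is the mask of `x` -/
def HM (a : G) (c : Fin 9 → G) (x : G) (m : ℕ) : Prop :=
  m < 512 ∧ ∀ i : Fin 9, (m.testBit i = false → x * c i = c i * x) ∧ (m.testBit i = true → x * c i = a * (c i * x))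

variable {a : G} {c : Fin 9 → G}

theorem c_mem (i : Fin 9) : c i ∈ QQ a c := Subgroup.subset_closure (Or.inr ⟨_, rfl⟩)

theorem a_mem : a ∈ QQ a c := Subgroup.subset_closure (Or.inl rfl)

theorem exists_bits : ∀ f : Fin 9 → Bool, ∃ m < 512, ∀ i : Fin 9, m.testBit i = f i := by
  intro f
  refine ⟨Nat.ofBits f, ?_, fun i => ?_⟩
  · have := Nat.ofBits_lt_two_pow f
    simpa using this
  · rw [Nat.testBit_ofBits_lt f i i.2]

theorem eq_of_bits {m k : ℕ} (hm : m < 512) (hk : k < 512) (h : ∀ i : Fin 9, m.testBit i = k.testBit i) :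
    m = k := by
  apply Nat.eq_of_testBit_eq
  intro i
  by_cases hi : i < 9
  · exact h ⟨i, hi⟩
  · have h1 : 512 ≤ 2 ^ i := by
      calc 512 = 2 ^ 9 := by norm_num
        _ ≤ 2 ^ i := Nat.pow_le_pow_right (by norm_num) (by omega)
    rw [Nat.testBit_lt_two_pow (lt_of_lt_of_le hm h1), Nat.testBit_lt_two_pow (lt_of_lt_of_le hk h1)]

section

variable (D : Data a c)
include D

theorem exists_mask {x : G} (hx : x ∈ QQ a c) : ∃ m, HM a c x m := by
  classical
  obtain ⟨m, hm, h⟩ := exists_bits fun i => decide (¬ x * c i = c i * x)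
  refine ⟨m, hm, fun i => ⟨fun h0 => ?_, fun h1 => ?_⟩⟩
  · rw [h i, decide_eq_false_iff_not, not_not] at h0
    exact h0
  · rw [h i, decide_eq_true_eq] at h1
    exact (comm_c D i hx).resolve_left h1

theorem not_both (x : G) (i : Fin 9) (h1 : x * c i = c i * x) (h2 : x * c i = a * (c i * x)) : False :=
  Cfsg.Agent.Th.NineExtra.not_both D i x h1 h2

theorem unique {x : G} {m k : ℕ} (hm : HM a c x m) (hk : HM a c x k) : m = k := by
  apply eq_of_bits hm.1 hk.1
  intro i
  obtain ⟨m0, m1⟩ := hm.2 i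
  obtain ⟨k0, k1⟩ := hk.2 i
  cases h : m.testBit i <;> cases h' : k.testBit i
  · rfl
  · exact (not_both D x i (m0 h) (k1 h')).elim
  · exact (not_both D x i (k0 h') (m1 h)).elim
  · rfl

theorem mul {x y : G} (hx : x ∈ QQ a c) {m k : ℕ} (hm : HM a c x m) (hk : HM a c y k) :
    HM a c (x * y) (m ^^^ k) := by
  refine ⟨Nat.xor_lt_two_pow (n := 9) hm.1 hk.1, fun i => ?_⟩
  obtain ⟨m0, m1⟩ := hm.2 i
  obtain ⟨k0, k1⟩ := hk.2 i
  have ax := comm_a D hx
  rw [Nat.testBit_xor]
  cases h : m.testBit i <;> cases h' : k.testBit i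
  · refine ⟨fun _ => ?_, fun hh => absurd hh (by decide)⟩
    rw [mul_assoc, k0 h', ← mul_assoc, m0 h, mul_assoc]
  · refine ⟨fun hh => absurd hh (by decide), fun _ => ?_⟩
    rw [mul_assoc, k1 h', ← mul_assoc, ← ax, mul_assoc, ← mul_assoc x, m0 h, mul_assoc (c i)]
  · refine ⟨fun hh => absurd hh (by decide), fun _ => ?_⟩
    rw [mul_assoc, k0 h', ← mul_assoc, m1 h]
    simp only [mul_assoc]
  · refine ⟨fun _ => ?_, fun hh => absurd hh (by decide)⟩
    rw [mul_assoc, k1 h', ← mul_assoc, ← ax, mul_assoc, ← mul_assoc x, m1 h]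
    simp only [mul_assoc]
    rw [← mul_assoc a a, D.aa, one_mul]

theorem mask_one : HM a c 1 0 :=
  ⟨by norm_num, fun i => ⟨fun _ => by rw [one_mul, mul_one], fun h => by simp at h⟩⟩

theorem mask_a : HM a c a 0 :=
  ⟨by norm_num, fun i => ⟨fun _ => D.ac i, fun h => by simp at h⟩⟩

theorem mask_c (i : Fin 9) : HM a c (c i) (511 ^^^ 2 ^ (i : ℕ)) := by
  have key : ∀ i j : Fin 9, (511 ^^^ 2 ^ (i : ℕ)).testBit j = decide (i ≠ j) := by decide +kernel
  refine ⟨?_, fun j => ?_⟩
  · revert i; decide +kernel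
  · rw [key]
    by_cases h : i = j
    · subst h
      exact ⟨fun _ => rfl, fun h => by simp at h⟩
    · exact ⟨fun h' => by simp [h] at h', fun _ => D.com i j h⟩

theorem inv_mask {x : G} (hx : x ∈ QQ a c) {m : ℕ} (hm : HM a c x m) : HM a c x⁻¹ m := by
  obtain ⟨k, hk⟩ := exists_mask D (Subgroup.inv_mem _ hx)
  have h1 := mul D hx hm hk
  rw [mul_inv_cancel] at h1
  have h2 := unique D h1 (mask_one D)
  have h3 : k = m := by
    have h4 : m ^^^ (m ^^^ k) = m ^^^ 0 := by rw [h2]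
    rwa [← Nat.xor_assoc, Nat.xor_self, Nat.zero_xor, Nat.xor_zero] at h4
  rwa [h3] at hk

/-- parity of a mask -/
def par (m : ℕ) : Bool :=
  (m.testBit 0 ^^ m.testBit 1 ^^ m.testBit 2 ^^ m.testBit 3 ^^ m.testBit 4 ^^ m.testBit 5 ^^ m.testBit 6 ^^
    m.testBit 7 ^^ m.testBit 8)

omit D in
theorem par_xor (m k : ℕ) : par (m ^^^ k) = (par m ^^ par k) := by
  unfold par
  simp only [Nat.testBit_xor]
  generalize m.testBit 0 = m0
  generalize m.testBit 1 = m1
  generalize m.testBit 2 = m2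
  generalize m.testBit 3 = m3
  generalize m.testBit 4 = m4
  generalize m.testBit 5 = m5
  generalize m.testBit 6 = m6
  generalize m.testBit 7 = m7
  generalize m.testBit 8 = m8
  generalize k.testBit 0 = k0
  generalize k.testBit 1 = k1
  generalize k.testBit 2 = k2
  generalize k.testBit 3 = k3
  generalize k.testBit 4 = k4
  generalize k.testBit 5 = k5
  generalize k.testBit 6 = k6
  generalize k.testBit 7 = k7
  generalize k.testBit 8 = k8
  simp only [Bool.xor_assoc, Bool.xor_left_comm]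

/-- masks of elements of `Q` are even -/
theorem par_eq {x : G} (hx : x ∈ QQ a c) {m : ℕ} (hm : HM a c x m) : par m = false := by
  refine Subgroup.closure_induction (p := fun x _ => ∀ m, HM a c x m → par m = false) ?_ ?_ ?_ ?_ hx m hm
  · rintro y (rfl | ⟨j, rfl⟩) m hm
    · rw [unique D hm (mask_a D)]; decide
    · rw [unique D hm (mask_c D j)]
      have key : ∀ j : Fin 9, par (511 ^^^ 2 ^ (j : ℕ)) = false := by decide +kernel
      exact key j
  · intro m hm
    rw [unique D hm (mask_one D)]; decide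
  · intro x y hx hy ihx ihy m hm
    obtain ⟨k, hk⟩ := exists_mask D hx
    obtain ⟨l, hl⟩ := exists_mask D hy
    rw [unique D hm (mul D hx hk hl), par_xor, ihx k hk, ihy l hl]
    rfl
  · intro x hx ihx m hm
    obtain ⟨k, hk⟩ := exists_mask D hx
    rw [unique D hm (inv_mask D hx hk)]
    exact ihx k hk

variable (hcard : Nat.card (QQ a c) = 512)
include hcard

/-- an element of `Q` commuting with all of `Q` is `1` or `a` -/
theorem eq_of_central {x : G} (hx : x ∈ QQ a c) (h : ∀ y ∈ QQ a c, y * x = x * y) : x = 1 ∨ x = a := by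
  have hex := Cfsg.Agent.Th.NineExtra.isExtraspecial D hcard
  have h2 := hex.2
  rw [Nat.card_eq_two_iff' (1 : Subgroup.center (QQ a c))] at h2
  obtain ⟨y, hy1, hy⟩ := h2
  have ha : (⟨a, a_mem⟩ : QQ a c) ∈ Subgroup.center (QQ a c) := by
    rw [Subgroup.mem_center_iff]
    intro g
    exact Subtype.ext (comm_a D g.2).symm
  have hxm : (⟨x, hx⟩ : QQ a c) ∈ Subgroup.center (QQ a c) := by
    rw [Subgroup.mem_center_iff]
    intro g
    exact Subtype.ext (h g g.2)
  by_cases hx1 : x = 1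
  · exact Or.inl hx1
  · right
    have e1 := hy ⟨⟨a, a_mem⟩, ha⟩ (fun h => D.a1 (congrArg (fun z => ((z : Subgroup.center (QQ a c)) : QQ a c).1) h))
    have e2 := hy ⟨⟨x, hx⟩, hxm⟩ (fun h => hx1 (congrArg (fun z => ((z : Subgroup.center (QQ a c)) : QQ a c).1) h))
    exact congrArg (fun z => ((z : Subgroup.center (QQ a c)) : QQ a c).1) (e2.trans e1.symm)

theorem eq_of_zero {x : G} (hx : x ∈ QQ a c) (h : HM a c x 0) : x = 1 ∨ x = a := by
  apply eq_of_central D hcard hx
  intro y hy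
  have key : QQ a c ≤ Subgroup.centralizer {x} := by
    rw [Subgroup.closure_le]
    rintro y (rfl | ⟨j, rfl⟩)
    · exact Subgroup.mem_centralizer_singleton_iff.mpr (comm_a D hx)
    · exact Subgroup.mem_centralizer_singleton_iff.mpr ((h.2 j).1 (by simp)).symm
  exact Subgroup.mem_centralizer_singleton_iff.mp (key hy)

theorem eq_of_mask {x y : G} (hx : x ∈ QQ a c) (hy : y ∈ QQ a c) {m : ℕ} (hm : HM a c x m) (hk : HM a c y m) :
    y = x ∨ y = x * a := by
  have h1 := mul D (Subgroup.inv_mem _ hx) (inv_mask D hx hm) hk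
  rw [Nat.xor_self] at h1
  rcases eq_of_zero D hcard (Subgroup.mul_mem _ (Subgroup.inv_mem _ hx) hy) h1 with h | h
  · left; rw [inv_mul_eq_one] at h; exact h.symm
  · right; rwa [inv_mul_eq_iff_eq_mul] at h

end

/-! ### the action of the letters -/

/-- equality of Booleans -/
def beqB (x y : Bool) : Bool := Bool.rec (Bool.not y) y x

theorem eq_of_beqB {x y : Bool} (h : beqB x y = true) : x = y := by
  cases x <;> cases y <;> first | rfl | exact absurd h (by decide)

/-- the action of a letter on masks -/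
def pm (x m : ℕ) : ℕ :=
  Nat.rec 0 (fun i ih => Nat.lor (Nat.shiftLeft (Nat.land (Nat.shiftRight m i) 1) (act9 x i)) ih) 9

set_option maxRecDepth 100000 in
theorem pm_check : allG (fun x => allB 512 fun m => and (Nat.ble (pm x m) 511)
    (allB 9 fun i => beqB (bit (pm x m) (act9 x i)) (bit m i)))
    [4,5,6,7,8,9] = true := by
  decide +kernel

theorem pm_lt {x : ℕ} (hx : x ∈ [4,5,6,7,8,9]) {m : ℕ} (hm : m < 512) : pm x m < 512 := by
  have h := (allB_iff _ _).mp ((allG_iff _ _).mp pm_check x hx) m hm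
  rw [Bool.and_eq_true, Nat.ble_eq] at h
  omega

theorem testBit_pm {x : ℕ} (hx : x ∈ [4,5,6,7,8,9]) {m : ℕ} (hm : m < 512) {i : ℕ} (hi : i < 9) :
    (pm x m).testBit (act9 x i) = m.testBit i := by
  have h := (allB_iff _ _).mp ((allG_iff _ _).mp pm_check x hx) m hm
  rw [Bool.and_eq_true] at h
  have h2 := (allB_iff _ _).mp h.2 i hi
  rw [bit_eq, bit_eq] at h2
  exact eq_of_beqB h2

theorem isC_of_mem {x : ℕ} (hx : x ∈ [4,5,6,7,8,9]) : isC x = true := by
  simp only [List.mem_cons, List.not_mem_nil, or_false] at hx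
  rcases hx with rfl | rfl | rfl | rfl | rfl | rfl <;> rfl

theorem invL_mem {x : ℕ} (hx : x ∈ [4,5,6,7,8,9]) : invL x ∈ [4,5,6,7,8,9] := by
  simp only [List.mem_cons, List.not_mem_nil, or_false] at hx
  rcases hx with rfl | rfl | rfl | rfl | rfl | rfl <;> decide

/-- conjugation by an element permuting the `c i` as the letter `x` does -/
theorem mask_conj {g : G} {x : ℕ} (hx : x ∈ [4,5,6,7,8,9]) (hg : g⁻¹ * a * g = a)
    (hc : ∀ i j : Fin 9, (j : ℕ) = act9 x i → g⁻¹ * c i * g = c j) {y : G} {m : ℕ} (hm : HM a c y m) :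
    HM a c (g⁻¹ * y * g) (pm x m) := by
  refine ⟨pm_lt hx hm.1, fun j => ?_⟩
  -- `j = act9 x i`
  have hlt : act9 (invL x) j < 9 := isTab9.lt _ (isC_of_mem (invL_mem hx)) j j.2
  obtain ⟨i, hi⟩ : ∃ i : Fin 9, (j : ℕ) = act9 x i := by
    refine ⟨⟨act9 (invL x) j, hlt⟩, ?_⟩
    have := isTab9.inv (invL x) (isC_of_mem (invL_mem hx)) j j.2
    rw [Cfsg.Agent.Th.Word.invL_invL] at this
    exact this.symm
  obtain ⟨h0, h1⟩ := hm.2 i
  have hcc := hc i j hi
  rw [hi, testBit_pm hx hm.1 i.2]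
  constructor
  · intro h
    rw [← hcc]
    calc g⁻¹ * y * g * (g⁻¹ * c i * g) = g⁻¹ * (y * c i) * g := by group
      _ = g⁻¹ * (c i * y) * g := by rw [h0 h]
      _ = g⁻¹ * c i * g * (g⁻¹ * y * g) := by group
  · intro h
    rw [← hcc]
    calc g⁻¹ * y * g * (g⁻¹ * c i * g) = g⁻¹ * (y * c i) * g := by group
      _ = g⁻¹ * (a * (c i * y)) * g := by rw [h1 h]
      _ = (g⁻¹ * a * g) * (g⁻¹ * c i * g * (g⁻¹ * y * g)) := by group
      _ = a * (g⁻¹ * c i * g * (g⁻¹ * y * g)) := by rw [hg]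

/-! ### irreducibility -/

/-- eight words in the letters 4..9 -/
def Ws : List (List ℕ) := [[8], [4, 6, 5, 9, 6], [5, 7, 5, 4, 6, 5, 6, 6], [5, 7, 9], [6, 6, 5, 4, 6, 5, 6, 9],
  [4, 5, 4, 6, 9], [5, 6, 5, 6], [4, 6]]

/-- words leading from the mask 3 to the masks of the pairs -/
def pws : List (List ℕ) := [[], [5], [5, 4], [5, 7], [5, 4, 7], [5, 4, 6, 5, 8], [5, 6, 6], [5, 4, 6, 6],
  [5, 4, 7, 5], [5, 4, 6, 5, 7], [5, 6, 5], [5, 4, 7, 9], [5, 4, 6, 5], [5, 4, 6, 5, 4, 7], [5, 4, 7, 5, 7, 5],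
  [5, 6], [5, 4, 6], [5, 4, 7, 5, 9], [5, 4, 7, 5, 7], [5, 4, 6, 5, 6, 8], [5, 4, 7, 5, 6], [5, 6, 9], [5, 4, 6, 9],
  [5, 4, 6, 5, 4], [5, 4, 6, 5, 9, 7], [5, 4, 6, 5, 6, 9], [5, 4, 7, 5, 7, 9], [5, 4, 6, 5, 6], [5, 7, 7],
  [5, 4, 7, 7], [5, 4, 6, 5, 9], [5, 4, 6, 5, 8, 7], [5, 4, 6, 5, 6, 6], [5, 4, 6, 5, 6, 5], [5, 4, 6, 5, 4, 6],
  [5, 4, 6, 5, 7, 8]]

/-- some word of the list satisfies the test -/
def anyG {α : Type*} (f : α → Bool) (l : List α) : Bool := List.rec false (fun x _ ih => Bool.rec ih true (f x)) l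

theorem anyG_cons {α : Type*} (f : α → Bool) (x : α) (l : List α) :
    anyG f (x :: l) = or (f x) (anyG f l) := by
  show (Bool.rec (anyG f l) true (f x) : Bool) = _
  cases f x <;> rfl

theorem anyG_iff {α : Type*} (f : α → Bool) (l : List α) : anyG f l = true ↔ ∃ x ∈ l, f x = true := by
  induction l with
  | nil => simp [anyG]
  | cons x l ih => rw [anyG_cons, Bool.or_eq_true, ih]; simp

/-- the pairs -/
def pairs : List ℕ := [3,5,6,9,10,12,17,18,20,24,33,34,36,40,48,65,66,68,72,80,96,129,130,132,136,144,160,192,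
  257,258,260,264,272,288,320,384]

/-- parity, fast in the kernel -/
def parK (m : ℕ) : Bool := Nat.rec false (fun i ih => Bool.rec ih (Bool.not ih) (bit m i)) 9

set_option maxRecDepth 100000 in
theorem irr_check : allB 512 (fun m => or (Nat.beq m 0) (or (parK m)
    (or (anyG (Nat.beq m) pairs) (anyG (fun w => anyG (Nat.beq (Nat.xor m (tr pm w m))) pairs) Ws)))) = true := by
  decide +kernel

set_option maxRecDepth 100000 in
theorem pair_check : allG (fun p => anyG (fun w => and (allG (fun x => anyG (Nat.beq x) [4,5,6,7,8,9]) w)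
    (and (Nat.beq (tr pm w 3) p) (Nat.beq (tr pm (Cfsg.Agent.Th.Word.iw w) p) 3))) pws) pairs = true := by
  decide +kernel

set_option maxRecDepth 100000 in
theorem Ws_check : allG (fun w => allG (fun x => anyG (Nat.beq x) [4,5,6,7,8,9]) w) Ws = true := by
  decide +kernel

set_option maxRecDepth 100000 in
theorem parK_check : allB 512 (fun m => beqB (parK m) (par m)) = true := by
  decide +kernel

/-- a set of masks closed under sums and the letters 4..9 which contains a nonzero even mask contains all pairs -/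
theorem pairs_mem (P : ℕ → Prop) (hx : ∀ m k, P m → P k → P (Nat.xor m k))
    (hl : ∀ x ∈ [4,5,6,7,8,9], ∀ m, P m → P (pm x m)) {m : ℕ} (hm : m < 512) (hm0 : m ≠ 0)
    (hpar : par m = false) (h : P m) : ∀ p ∈ pairs, P p := by
  have hw : ∀ w : List ℕ, (∀ x ∈ w, x ∈ [4,5,6,7,8,9]) → ∀ m, P m → P (tr pm w m) := by
    intro w
    induction w with
    | nil => intro _ m h; exact h
    | cons x w ih =>
      intro hw m h
      exact ih (fun y hy => hw y (List.mem_cons_of_mem _ hy)) _ (hl x (hw x List.mem_cons_self) m h)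
  have hlet : ∀ w : List ℕ, allG (fun x => anyG (Nat.beq x) [4,5,6,7,8,9]) w = true →
      ∀ x ∈ w, x ∈ [4,5,6,7,8,9] := by
    intro w h x hx
    obtain ⟨y, hy, h2⟩ := (anyG_iff _ _).mp ((allG_iff _ _).mp h x hx)
    rw [Nat.eq_of_beq_eq_true h2]; exact hy
  -- a pair
  obtain ⟨p, hp, hPp⟩ : ∃ p ∈ pairs, P p := by
    have h1 := (allB_iff _ _).mp irr_check m hm
    have e0 : Nat.beq m 0 = false := by
      cases hb : Nat.beq m 0 with
      | false => rfl
      | true => exact absurd (Nat.eq_of_beq_eq_true hb) hm0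
    have e1 : parK m = false := by
      have := (allB_iff _ _).mp parK_check m hm
      rw [eq_of_beqB this, hpar]
    rw [e0, e1, Bool.false_or, Bool.false_or, Bool.or_eq_true] at h1
    rcases h1 with h1 | h1
    · obtain ⟨p, hp, h2⟩ := (anyG_iff _ _).mp h1
      rw [Nat.eq_of_beq_eq_true h2] at h
      exact ⟨p, hp, h⟩
    · obtain ⟨w, hw', h2⟩ := (anyG_iff _ _).mp h1
      obtain ⟨p, hp, h3⟩ := (anyG_iff _ _).mp h2
      refine ⟨p, hp, ?_⟩
      rw [← Nat.eq_of_beq_eq_true h3]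
      exact hx _ _ h (hw w (hlet w ((allG_iff _ _).mp Ws_check w hw')) m h)
  have key : ∀ q ∈ pairs, ∃ w : List ℕ, (∀ x ∈ w, x ∈ [4,5,6,7,8,9]) ∧ tr pm w 3 = q ∧
      tr pm (Cfsg.Agent.Th.Word.iw w) q = 3 := by
    intro q hq
    obtain ⟨w, -, h1⟩ := (anyG_iff _ _).mp ((allG_iff _ _).mp pair_check q hq)
    rw [Bool.and_eq_true, Bool.and_eq_true] at h1
    exact ⟨w, hlet w h1.1, Nat.eq_of_beq_eq_true h1.2.1, Nat.eq_of_beq_eq_true h1.2.2⟩
  have h3 : P 3 := by
    obtain ⟨w, hw1, -, h2⟩ := key p hp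
    rw [← h2]
    refine hw _ ?_ p hPp
    intro x hx
    have hmem : ∀ w : List ℕ, (∀ x ∈ w, x ∈ [4,5,6,7,8,9]) → ∀ x ∈ Cfsg.Agent.Th.Word.iw w, x ∈ [4,5,6,7,8,9] := by
      intro w
      induction w with
      | nil => intro _ x hx; simp at hx
      | cons y w ih =>
        intro hw x hx
        rw [Cfsg.Agent.Th.Word.iw_cons, List.mem_append, List.mem_singleton] at hx
        rcases hx with hx | hx
        · exact ih (fun z hz => hw z (List.mem_cons_of_mem _ hz)) x hx
        · rw [hx]; exact invL_mem (hw y List.mem_cons_self)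
    exact hmem w hw1 x hx
  intro q hq
  obtain ⟨w, hw1, h2, -⟩ := key q hq
  rw [← h2]
  exact hw w hw1 3 h3

end Cfsg.Agent.KFacts.Th.Mask
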