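import Cfsg.Agent.KFacts.Th.Mask
import Cfsg.Agent.Th.CStruct

/-!
# The involution centraliser of the Thompson group: facts for the odd half, type (E) (helper950)

For letters `γ` with the relations of the Thompson group (`Ctx`): `C = C_G(a)` is perfect, `Q0` is extraspecial of
order 512 with `C_G(Q0) = ⟨a⟩`, and every normal subgroup of `C` contained in `Q0` is contained in `⟨a⟩` or is `Q0`.
-/

set_option autoImplicit false
set_option maxRecDepth 100000

namespace Cfsg.Agent.KFacts.Th.Struct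

open Cfsg.Agent.Th.Base Cfsg.Agent.Th.Word Cfsg.Agent.Th.RelWords Cfsg.Agent.Th.PermTab
  Cfsg.Agent.Th.KOracle Cfsg.Agent.Th.KPerm Cfsg.Agent.Th.NineAct Cfsg.Agent.Th.CStruct
open Cfsg.Agent.KFacts.Th.Mask
open scoped commutatorElement

universe u

variable {G : Type u} [Group G] {γ : ℕ → G}

section

variable (hγ : InvCompat γ) (hK : RelK (γ 1) (γ 2) (γ 3) (γ 4) (γ 5) (γ 6) (γ 8))
  (hC : RelC (γ 1) (γ 3) (γ 4) (γ 5) (γ 6) (γ 8) (γ 10))
  (hcardK : Nat.card (sub γ isK) = 634023936) (hcardC : Nat.card (sub γ isC) = 92897280)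

theorem Q0_le_C : Q0 γ ≤ sub γ isC := by
  refine Q0_le_B.trans ?_
  unfold sub
  apply Subgroup.closure_mono
  rintro g ⟨x, hx, rfl⟩
  exact ⟨x, isC_of_isB hx, rfl⟩

include hγ hK hC hcardK hcardC

/-- the epimorphism onto `A9` with kernel `Q0` -/
theorem exists_epi : ∃ f : sub γ isC →* alternatingGroup (Fin 9), Function.Surjective f ∧
    f.ker = (Q0 γ).subgroupOf (sub γ isC) ∧
    ∀ (w : List ℕ) (hw : ∀ x ∈ w, isC x = true),
      ((f ⟨ev γ w, ev_mem_sub hw⟩ : alternatingGroup (Fin 9)) : Equiv.Perm (Fin 9)) = ev (rho isTab9) w := by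
  obtain ⟨φ, hφ, hφ2⟩ := exists_hom9 hγ hC hcardC
  have hfinC : Finite (sub γ isC) := Nat.finite_of_card_ne_zero (by rw [hcardC]; norm_num)
  have hQC : Q0 γ ≤ sub γ isC := Q0_le_C
  -- order of the kernel
  have hker : Nat.card φ.ker = 512 := by
    have h1 := Subgroup.card_mul_index φ.ker
    have h2 : φ.ker.index = 181440 := by
      rw [Subgroup.index_ker, hφ, nat_card_alternatingGroup, Nat.card_eq_fintype_card, Fintype.card_fin]
      decide
    rw [h2, hcardC] at h1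
    omega
  have hle : (Q0 γ).subgroupOf (sub γ isC) ≤ φ.ker := by
    rintro ⟨y, hy⟩ hyQ
    rw [Subgroup.mem_subgroupOf] at hyQ
    have hyQ : y ∈ Q0 γ := hyQ
    -- the preimage of the kernel contains the generators
    have h1 : Q0 γ ≤ φ.ker.map (sub γ isC).subtype := by
      unfold Q0
      rw [Subgroup.closure_le]
      have key : ∀ (w : List ℕ) (hw : ∀ x ∈ w, isC x = true), (∀ p < 9, tr act9 w p = p) →
          ev γ w ∈ φ.ker.map (sub γ isC).subtype := by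
        intro w hw hp
        refine ⟨⟨ev γ w, ev_mem_sub hw⟩, ?_, rfl⟩
        rw [SetLike.mem_coe, MonoidHom.mem_ker, hφ2 w hw]
        exact ev_rho_eq_one isTab9 hw hp
      rintro z (rfl | ⟨i, rfl⟩)
      · have := key [1] (by decide +kernel) (by decide +kernel)
        rwa [ev_singleton] at this
      · refine key (wc i) (fun x hx => isC_of_isB ((allL_iff _ _).mp ((allB_iff _ _).mp K_check i i.2) x hx)) ?_
        intro p hp
        exact Nat.eq_of_beq_eq_true ((allB_iff _ _).mp ((allB_iff _ _).mp nine_check i i.2) p hp)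
    obtain ⟨z, hz, hzy⟩ := h1 hyQ
    have : (⟨y, hy⟩ : sub γ isC) = z := Subtype.ext hzy.symm
    rw [this]; exact hz
  have hcQ : Nat.card ((Q0 γ).subgroupOf (sub γ isC)) = Nat.card (Q0 γ) :=
    Nat.card_congr (Subgroup.subgroupOfEquivOfLe hQC).toEquiv
  have hge := card_Q0_ge hγ hK hcardK
  have heq : (Q0 γ).subgroupOf (sub γ isC) = φ.ker := by
    apply Subgroup.eq_of_le_of_card_ge hle
    rw [hker, hcQ]; exact hge
  let e : φ.range ≃* alternatingGroup (Fin 9) := MulEquiv.subgroupCongr hφ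
  refine ⟨e.toMonoidHom.comp φ.rangeRestrict, ?_, ?_, ?_⟩
  · exact e.surjective.comp φ.rangeRestrict_surjective
  · rw [heq]
    ext x
    rw [MonoidHom.mem_ker, MonoidHom.mem_ker]
    constructor
    · intro h
      have h1 : e (φ.rangeRestrict x) = 1 := h
      rw [map_eq_one_iff e e.injective] at h1
      exact congrArg Subtype.val h1
    · intro h
      show e (φ.rangeRestrict x) = 1
      rw [map_eq_one_iff e e.injective]
      exact Subtype.ext h
  · intro w hw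
    exact hφ2 w hw

theorem card_Q0 : Nat.card (Q0 γ) = 512 := by
  obtain ⟨f, hf, hker, -⟩ := exists_epi hγ hK hC hcardK hcardC
  have hfinC : Finite (sub γ isC) := Nat.finite_of_card_ne_zero (by rw [hcardC]; norm_num)
  have h1 := Subgroup.card_mul_index f.ker
  have h2 : f.ker.index = 181440 := by
    rw [Subgroup.index_ker, MonoidHom.range_eq_top.2 hf, Subgroup.card_top, nat_card_alternatingGroup,
      Nat.card_eq_fintype_card, Fintype.card_fin]
    decide
  have h3 : Nat.card f.ker = Nat.card (Q0 γ) := by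
    rw [hker]
    exact Nat.card_congr (Subgroup.subgroupOfEquivOfLe (Q0_le_C)).toEquiv
  rw [h2, h3, hcardC] at h1
  omega

/-- the element of `C` permuting the nine involutions cyclically -/
def x0 (γ : ℕ → G) : G := (ev γ [4, 5, 6])⁻¹


end

/-- the context -/
structure Ctx (γ : ℕ → G) : Prop where
  inv : InvCompat γ
  K : RelK (γ 1) (γ 2) (γ 3) (γ 4) (γ 5) (γ 6) (γ 8)
  C : RelC (γ 1) (γ 3) (γ 4) (γ 5) (γ 6) (γ 8) (γ 10)
  cardK : Nat.card (sub γ isK) = 634023936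
  cardC : Nat.card (sub γ isC) = 92897280
  a1 : γ 1 ≠ 1
  cent : Subgroup.centralizer ({γ 1} : Set G) = sub γ isC
  top : sub γ (fun x => isK x || isC x) = ⊤
  card : Nat.card G = 90745943887872000

namespace Ctx

variable (h : Ctx γ)
include h

theorem fin : Finite G := Nat.finite_of_card_ne_zero (by rw [h.card]; norm_num)

theorem data : Cfsg.Agent.Th.NineExtra.Data (γ 1) (cc γ) := nineData h.inv h.K h.a1

theorem cardQ : Nat.card (Q0 γ) = 512 := card_Q0 h.inv h.K h.C h.cardK h.cardC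

theorem exists_epi : ∃ f : sub γ isC →* alternatingGroup (Fin 9), Function.Surjective f ∧
    f.ker = (Q0 γ).subgroupOf (sub γ isC) ∧
    ∀ (w : List ℕ) (hw : ∀ x ∈ w, isC x = true),
      ((f ⟨ev γ w, ev_mem_sub hw⟩ : alternatingGroup (Fin 9)) : Equiv.Perm (Fin 9)) = ev (rho isTab9) w :=
  Struct.exists_epi h.inv h.K h.C h.cardK h.cardC

theorem Q_le : Q0 γ ≤ sub γ isC := Q0_le_C

theorem aa : γ 1 * γ 1 = 1 := a_sq h.inv h.K

theorem a_mem : γ 1 ∈ Q0 γ := Subgroup.subset_closure (Or.inl rfl)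

theorem cc_mem (i : Fin 9) : cc γ i ∈ Q0 γ := Subgroup.subset_closure (Or.inr ⟨_, rfl⟩)

theorem mem_C {x : G} : x ∈ sub γ isC ↔ x * γ 1 = γ 1 * x := by
  rw [← h.cent, Subgroup.mem_centralizer_singleton_iff]

theorem Q_conj {g : G} (hg : g ∈ sub γ isC) {q : G} (hq : q ∈ Q0 γ) : g⁻¹ * q * g ∈ Q0 γ := by
  obtain ⟨f, -, hker, -⟩ := h.exists_epi
  have h1 : (⟨q, h.Q_le hq⟩ : sub γ isC) ∈ f.ker := by rw [hker, Subgroup.mem_subgroupOf]; exact hq
  have h2 : (⟨g, hg⟩ : sub γ isC)⁻¹ * ⟨q, h.Q_le hq⟩ * ⟨g, hg⟩ ∈ f.ker := by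
    have := Subgroup.Normal.conj_mem (inferInstance : f.ker.Normal) _ h1 (⟨g, hg⟩ : sub γ isC)⁻¹
    rwa [inv_inv] at this
  rw [hker, Subgroup.mem_subgroupOf] at h2
  exact h2

theorem extraspecial : Cfsg.IsExtraspecial 2 (Q0 γ) :=
  Cfsg.Agent.Th.NineExtra.isExtraspecial h.data h.cardQ

theorem Q_comm {q : G} (hq : q ∈ Q0 γ) : γ 1 * q = q * γ 1 := Cfsg.Agent.Th.NineExtra.comm_a h.data hq

/-- conjugation by the letters 4..9 -/
theorem cc_conj' {x : ℕ} (hx : x ∈ [4,5,6,7,8,9]) (i j : Fin 9) (hj : (j : ℕ) = act9 x i) :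
    (γ x)⁻¹ * cc γ i * γ x = cc γ j := cc_conj h.inv h.K i hx j hj

theorem letter_mem {x : ℕ} (hx : x ∈ [4,5,6,7,8,9]) : γ x ∈ sub γ isC :=
  Subgroup.subset_closure ⟨x, isC_of_mem hx, rfl⟩

theorem a_conj {g : G} (hg : g ∈ sub γ isC) : g⁻¹ * γ 1 * g = γ 1 := by
  rw [mul_assoc, ← h.mem_C.mp hg, inv_mul_cancel_left]

theorem mask_letter {x : ℕ} (hx : x ∈ [4,5,6,7,8,9]) {y : G} {m : ℕ} (hm : HM (γ 1) (cc γ) y m) :
    HM (γ 1) (cc γ) ((γ x)⁻¹ * y * γ x) (pm x m) :=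
  mask_conj hx (h.a_conj (h.letter_mem hx)) (h.cc_conj' hx) hm

theorem c01_ne : cc γ 0 ≠ cc γ 1 ∧ cc γ 0 ≠ cc γ 1 * γ 1 := by
  have m0 := mask_c h.data (0 : Fin 9)
  have m1 := mask_c h.data (1 : Fin 9)
  have key : ¬ HM (γ 1) (cc γ) (cc γ 0) (511 ^^^ 2 ^ ((1 : Fin 9) : ℕ)) := fun hh =>
    absurd (unique h.data m0 hh) (by decide +kernel)
  constructor
  · intro e
    apply key
    rw [e]; exact m1
  · intro e
    apply key
    rw [e]
    have := mul h.data (h.cc_mem 1) m1 (mask_a h.data)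
    rwa [Nat.xor_zero] at this

/-- `C_G(Q0) = ⟨a⟩` -/
theorem eq_of_cent {x : G} (hx : ∀ q ∈ Q0 γ, x * q = q * x) : x = 1 ∨ x = γ 1 := by
  have hxC : x ∈ sub γ isC := h.mem_C.mpr (hx _ h.a_mem)
  obtain ⟨f, hf, hker, -⟩ := h.exists_epi
  by_cases hxQ : x ∈ Q0 γ
  · exact eq_of_central h.data h.cardQ hxQ fun y hy => (hx y hy).symm
  · exfalso
    let N : Subgroup (sub γ isC) := (Subgroup.centralizer (Q0 γ : Set G)).subgroupOf (sub γ isC)
    have hN : N.Normal := by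
      refine ⟨fun n hn g => ?_⟩
      rw [Subgroup.mem_subgroupOf, Subgroup.mem_centralizer_iff] at hn ⊢
      intro q hq
      have h1 := hn _ (h.Q_conj g.2 hq)
      show q * ((g : G) * n * (g : G)⁻¹) = (g : G) * n * (g : G)⁻¹ * q
      calc q * ((g : G) * n * (g : G)⁻¹) = g * ((g : G)⁻¹ * q * g * n) * (g : G)⁻¹ := by group
        _ = g * (n * ((g : G)⁻¹ * q * g)) * (g : G)⁻¹ := by rw [h1]
        _ = (g : G) * n * (g : G)⁻¹ * q := by group
    have hs : IsSimpleGroup (alternatingGroup (Fin 9)) := alternatingGroup.isSimpleGroup (by simp)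
    have hxN : (⟨x, hxC⟩ : sub γ isC) ∈ N := by
      rw [Subgroup.mem_subgroupOf, Subgroup.mem_centralizer_iff]
      intro q hq
      exact (hx q hq).symm
    rcases (hN.map f hf).eq_bot_or_eq_top with h1 | h1
    · apply hxQ
      have h2 : f ⟨x, hxC⟩ ∈ N.map f := ⟨_, hxN, rfl⟩
      rw [h1, Subgroup.mem_bot, ← MonoidHom.mem_ker, hker, Subgroup.mem_subgroupOf] at h2
      exact h2
    · -- every element of `C` is `n q`
      have h4 : γ 4 ∈ sub γ isC := h.letter_mem (by simp)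
      have h2 : f ⟨γ 4, h4⟩ ∈ N.map f := by rw [h1]; exact Subgroup.mem_top _
      obtain ⟨n, hn, hn2⟩ := h2
      have h3 : n⁻¹ * ⟨γ 4, h4⟩ ∈ f.ker := by rw [MonoidHom.mem_ker, map_mul, map_inv, hn2, inv_mul_cancel]
      rw [hker, Subgroup.mem_subgroupOf] at h3
      have h3' : (n : G)⁻¹ * γ 4 ∈ Q0 γ := h3
      set q : G := (n : G)⁻¹ * γ 4 with hq
      have e4 : γ 4 = n * q := by rw [hq]; group
      have hn' := (Subgroup.mem_centralizer_iff.mp (Subgroup.mem_subgroupOf.mp hn)) _ (h.cc_mem 0)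
      have h5 := h.cc_conj' (x := 4) (by simp) 0 1 (by decide +kernel)
      rw [e4] at h5
      have h6 : q⁻¹ * cc γ 0 * q = cc γ 1 := by
        rw [← h5]
        calc q⁻¹ * cc γ 0 * q = q⁻¹ * ((n : G)⁻¹ * (n * cc γ 0)) * q := by group
          _ = q⁻¹ * ((n : G)⁻¹ * (cc γ 0 * n)) * q := by rw [hn']
          _ = ((n : G) * q)⁻¹ * cc γ 0 * (n * q) := by group
      have ha2 : γ 1 * q = q * γ 1 := h.Q_comm h3'
      rcases Cfsg.Agent.Th.NineExtra.comm_c h.data 0 h3' with h7 | h7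
      · apply h.c01_ne.1
        rw [← h6, mul_assoc, ← h7, inv_mul_cancel_left]
      · apply h.c01_ne.2
        rw [← h6]
        have hac := h.data.ac 0
        have h8 : q * cc γ 0 * γ 1 = cc γ 0 * q := by
          calc q * cc γ 0 * γ 1 = γ 1 * (cc γ 0 * (q * γ 1)) := by rw [h7]; simp only [mul_assoc]
            _ = γ 1 * (cc γ 0 * γ 1) * q := by rw [← ha2]; simp only [mul_assoc]
            _ = γ 1 * γ 1 * cc γ 0 * q := by rw [← hac]; simp only [mul_assoc]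
            _ = cc γ 0 * q := by rw [h.aa, one_mul]
        calc cc γ 0 = q⁻¹ * (q * cc γ 0 * γ 1) * γ 1 := by
              rw [mul_assoc q⁻¹, mul_assoc (q * cc γ 0), h.aa]; group
          _ = q⁻¹ * cc γ 0 * q * γ 1 := by rw [h8]; group

/-- normal subgroups of `C` inside `Q0` -/
theorem eq_top_of_normal (N : Subgroup G) (hNQ : N ≤ Q0 γ)
    (hN : ∀ g ∈ sub γ isC, ∀ n ∈ N, g⁻¹ * n * g ∈ N) {x : G} (hx : x ∈ N) (hx1 : x ≠ 1) (hxa : x ≠ γ 1) :
    N = Q0 γ := by
  have D := h.data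
  let P : ℕ → Prop := fun m => ∃ y ∈ N, HM (γ 1) (cc γ) y m
  obtain ⟨m, hm⟩ := exists_mask D (hNQ hx)
  have hm0 : m ≠ 0 := by
    rintro rfl
    rcases eq_of_zero D h.cardQ (hNQ hx) hm with h1 | h1
    · exact hx1 h1
    · exact hxa h1
  have hpairs := pairs_mem P (by
      rintro m k ⟨y, hy, hy2⟩ ⟨z, hz, hz2⟩
      exact ⟨y * z, N.mul_mem hy hz, mul D (hNQ hy) hy2 hz2⟩) (by
      rintro l hl k ⟨y, hy, hy2⟩
      exact ⟨(γ l)⁻¹ * y * γ l, hN _ (h.letter_mem hl) y hy, h.mask_letter hl hy2⟩)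
    hm.1 hm0 (par_eq D (hNQ hx) hm) ⟨x, hx, hm⟩
  -- `a ∈ N`
  have haN : γ 1 ∈ N := by
    obtain ⟨i, hi⟩ : ∃ i : Fin 9, m.testBit i = true := by
      by_contra hcon
      push Not at hcon
      apply hm0
      apply eq_of_bits hm.1 (by norm_num)
      intro i
      rw [Nat.zero_testBit]
      exact Bool.eq_false_iff.mpr (hcon i)
    have h1 := (hm.2 i).2 hi
    have h2 : (cc γ i)⁻¹ * x * cc γ i = x * γ 1 := by
      have hc := D.cc i
      have hci : (cc γ i)⁻¹ = cc γ i := inv_eq_of_mul_eq_one_right hc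
      rw [hci, mul_assoc, h1, ← mul_assoc, ← D.ac i, mul_assoc, ← mul_assoc (cc γ i), hc, one_mul]
      exact h.Q_comm (hNQ hx)
    have h3 := hN _ (h.Q_le (h.cc_mem i)) x hx
    rw [h2] at h3
    have h4 := N.mul_mem (N.inv_mem hx) h3
    rwa [inv_mul_cancel_left] at h4
  -- products of two `c i`
  have key : ∀ i j : Fin 9, i ≠ j → cc γ i * cc γ j ∈ N := by
    intro i j hij
    have hp : ((511 ^^^ 2 ^ (i : ℕ)) ^^^ (511 ^^^ 2 ^ (j : ℕ))) ∈ pairs := by
      revert i j; decide +kernel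
    obtain ⟨y, hy, hy2⟩ := hpairs _ hp
    rcases eq_of_mask D h.cardQ (hNQ hy) (Subgroup.mul_mem _ (h.cc_mem i) (h.cc_mem j)) hy2
      (mul D (h.cc_mem i) (mask_c D i) (mask_c D j)) with h1 | h1
    · rw [h1]; exact hy
    · rw [h1]; exact N.mul_mem hy haN
  have h8 : cc γ 8 ∈ N := by
    have h1 : cc γ 0 * cc γ 1 * (cc γ 2 * cc γ 3) * (cc γ 4 * cc γ 5) * (cc γ 6 * cc γ 7) ∈ N :=
      N.mul_mem (N.mul_mem (N.mul_mem (key 0 1 (by decide)) (key 2 3 (by decide))) (key 4 5 (by decide)))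
        (key 6 7 (by decide))
    have hc := h.cc_mem
    have m01 := mul D (hc 0) (mask_c D 0) (mask_c D 1)
    have m23 := mul D (hc 2) (mask_c D 2) (mask_c D 3)
    have m45 := mul D (hc 4) (mask_c D 4) (mask_c D 5)
    have m67 := mul D (hc 6) (mask_c D 6) (mask_c D 7)
    have i01 := Subgroup.mul_mem _ (hc 0) (hc 1)
    have i23 := Subgroup.mul_mem _ (hc 2) (hc 3)
    have i45 := Subgroup.mul_mem _ (hc 4) (hc 5)
    have mm := mul D (Subgroup.mul_mem _ (Subgroup.mul_mem _ i01 i23) i45)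
      (mul D (Subgroup.mul_mem _ i01 i23) (mul D i01 m01 m23) m45) m67
    have e : (((((511 ^^^ 2 ^ ((0 : Fin 9) : ℕ)) ^^^ (511 ^^^ 2 ^ ((1 : Fin 9) : ℕ))) ^^^
      ((511 ^^^ 2 ^ ((2 : Fin 9) : ℕ)) ^^^ (511 ^^^ 2 ^ ((3 : Fin 9) : ℕ)))) ^^^
      ((511 ^^^ 2 ^ ((4 : Fin 9) : ℕ)) ^^^ (511 ^^^ 2 ^ ((5 : Fin 9) : ℕ)))) ^^^
      ((511 ^^^ 2 ^ ((6 : Fin 9) : ℕ)) ^^^ (511 ^^^ 2 ^ ((7 : Fin 9) : ℕ)))) = (511 ^^^ 2 ^ ((8 : Fin 9) : ℕ)) := by
      decide +kernel
    rw [e] at mm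
    rcases eq_of_mask D h.cardQ (hNQ h1) (hc 8) mm (mask_c D 8) with h2 | h2
    · rw [h2]; exact h1
    · rw [h2]; exact N.mul_mem h1 haN
  apply le_antisymm hNQ
  conv_lhs => unfold Q0
  rw [Subgroup.closure_le]
  rintro y (rfl | ⟨i, rfl⟩)
  · exact haN
  · by_cases hi : i = 8
    · rw [hi]; exact h8
    · have h1 := N.mul_mem (key i 8 hi) h8
      rwa [mul_assoc, D.cc 8, mul_one] at h1

/-- `C` is perfect -/
theorem perfect : ⁅sub γ isC, sub γ isC⁆ = sub γ isC := by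
  obtain ⟨f, hf, hker, -⟩ := h.exists_epi
  have hCC : ⁅sub γ isC, sub γ isC⁆ ≤ sub γ isC := Subgroup.commutator_le_self _
  have hcom : ∀ x ∈ sub γ isC, ∀ y ∈ sub γ isC, x * y * x⁻¹ * y⁻¹ ∈ ⁅sub γ isC, sub γ isC⁆ :=
    fun x hx y hy => Subgroup.commutator_mem_commutator hx hy
  -- `Q0 ≤ C'`
  have hQ : Q0 γ ≤ ⁅sub γ isC, sub γ isC⁆ := by
    have h4 : γ 4 ∈ sub γ isC := h.letter_mem (by simp)
    have h5 := h.cc_conj' (x := 4) (by simp) 0 1 (by decide +kernel)
    have hx : (γ 4)⁻¹ * cc γ 0 * γ 4 * (cc γ 0)⁻¹ ∈ ⁅sub γ isC, sub γ isC⁆ := by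
      have := hcom _ (Subgroup.inv_mem _ h4) _ (h.Q_le (h.cc_mem 0))
      rwa [inv_inv] at this
    rw [h5, inv_eq_of_mul_eq_one_right (h.data.cc 0)] at hx
    have hxQ : cc γ 1 * cc γ 0 ∈ Q0 γ := Subgroup.mul_mem _ (h.cc_mem 1) (h.cc_mem 0)
    have hnorm : ∀ g ∈ sub γ isC, ∀ n ∈ ⁅sub γ isC, sub γ isC⁆ ⊓ Q0 γ,
        g⁻¹ * n * g ∈ ⁅sub γ isC, sub γ isC⁆ ⊓ Q0 γ := by
      rintro g hg n ⟨hn1, hn2⟩
      refine ⟨?_, h.Q_conj hg hn2⟩
      have h1 := hcom _ (Subgroup.inv_mem _ hg) _ (hCC hn1)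
      have h2 := Subgroup.mul_mem _ h1 hn1
      have e : g⁻¹ * n * g⁻¹⁻¹ * n⁻¹ * n = g⁻¹ * n * g := by group
      rwa [e] at h2
    have h6 := h.eq_top_of_normal (⁅sub γ isC, sub γ isC⁆ ⊓ Q0 γ) inf_le_right hnorm (x := cc γ 1 * cc γ 0)
      ⟨hx, hxQ⟩ (by
        intro e
        apply h.c01_ne.1
        have h7 := inv_eq_of_mul_eq_one_right e
        rw [← h7]
        exact inv_eq_of_mul_eq_one_right (h.data.cc 1)) (by
        intro e
        apply h.c01_ne.2
        rw [← e, ← mul_assoc, h.data.cc 1, one_mul])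
    rw [← h6]; exact inf_le_left
  apply le_antisymm hCC
  intro x hx
  have hs : IsSimpleGroup (alternatingGroup (Fin 9)) := alternatingGroup.isSimpleGroup (by simp)
  have hperf : commutator (alternatingGroup (Fin 9)) = ⊤ := by
    rcases (inferInstance : (commutator (alternatingGroup (Fin 9))).Normal).eq_bot_or_eq_top with h1 | h1
    · exfalso
      have h2 : ∀ x y : alternatingGroup (Fin 9), x * y = y * x := by
        intro x y
        have h3 : ⁅x, y⁆ ∈ commutator (alternatingGroup (Fin 9)) := Subgroup.commutator_mem_commutator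
          (Subgroup.mem_top _) (Subgroup.mem_top _)
        rw [h1, Subgroup.mem_bot, commutatorElement_eq_one_iff_mul_comm] at h3
        exact h3
      have m1 : (Equiv.swap 0 1 * Equiv.swap 1 2 : Equiv.Perm (Fin 9)) ∈ alternatingGroup (Fin 9) := by
        rw [Equiv.Perm.mem_alternatingGroup, map_mul, Equiv.Perm.sign_swap (by decide),
          Equiv.Perm.sign_swap (by decide)]
        decide
      have m2 : (Equiv.swap 0 1 * Equiv.swap 1 3 : Equiv.Perm (Fin 9)) ∈ alternatingGroup (Fin 9) := by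
        rw [Equiv.Perm.mem_alternatingGroup, map_mul, Equiv.Perm.sign_swap (by decide),
          Equiv.Perm.sign_swap (by decide)]
        decide
      have h4 := congrArg Subtype.val (h2 ⟨_, m1⟩ ⟨_, m2⟩)
      have h5 : ((Equiv.swap 0 1 * Equiv.swap 1 2) * (Equiv.swap 0 1 * Equiv.swap 1 3) : Equiv.Perm (Fin 9)) 0 =
        ((Equiv.swap 0 1 * Equiv.swap 1 3) * (Equiv.swap 0 1 * Equiv.swap 1 2) : Equiv.Perm (Fin 9)) 0 :=
        congrArg (fun z : Equiv.Perm (Fin 9) => z 0) h4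
      exact absurd h5 (by decide +kernel)
    · exact h1
  have h1 : f ⟨x, hx⟩ ∈ (commutator (sub γ isC)).map f := by
    have : (commutator (sub γ isC)).map f = commutator (alternatingGroup (Fin 9)) := by
      rw [commutator_def, commutator_def, Subgroup.map_commutator, Subgroup.map_top_of_surjective f hf]
    rw [this, hperf]; exact Subgroup.mem_top _
  obtain ⟨y, hy, hy2⟩ := h1
  have h2 : y⁻¹ * ⟨x, hx⟩ ∈ f.ker := by rw [MonoidHom.mem_ker, map_mul, map_inv, hy2, inv_mul_cancel]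
  rw [hker, Subgroup.mem_subgroupOf] at h2
  have h2' : (y : G)⁻¹ * x ∈ Q0 γ := h2
  have h3 : (y : G) ∈ ⁅sub γ isC, sub γ isC⁆ := by
    have : (commutator (sub γ isC)).map (sub γ isC).subtype = ⁅sub γ isC, sub γ isC⁆ := by
      rw [commutator_def, Subgroup.map_commutator, ← MonoidHom.range_eq_map, Subgroup.range_subtype]
    rw [← this]
    exact ⟨y, hy, rfl⟩
  have h4 := Subgroup.mul_mem _ h3 (hQ h2')
  rwa [mul_inv_cancel_left] at h4

/-- the index of `C` is odd -/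
theorem index_eq : (sub γ isC).index = 976841775 := by
  have h1 := (sub γ isC).card_mul_index
  rw [h.card, h.cardC] at h1
  omega

end Ctx

end Cfsg.Agent.KFacts.Th.Struct
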